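import Cfsg.Agent.Lib.Goldschmidt92.Ree

/-!
The Goldschmidt groups are `S₄`-free and the criterion for `S₃`-freeness.

The only input which is not proved here is the order of a group of Ree type, taken as the
hypothesis `ReeOrder` (the content of statement S0343).
-/

set_option autoImplicit false
set_option linter.style.haveILetI false
set_option linter.unusedSectionVars false

namespace Cfsg.Agent.Lib.Goldschmidt92

open Subgroup

universe u

/-- The statement of S0343. -/
def ReeOrder : Prop :=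
  ∀ (G : Type u) [Group G] [Finite G] [IsSimpleGroup G],
    (∀ P : Sylow 2 G, ∀ a b : P, a * b = b * a) →
    ∀ (F : Type) [Field F] [Fintype F], 3 ≤ Fintype.card F → ∀ t : G, orderOf t = 2 →
    Nonempty (centralizer ({t} : Set G) ≃*
        Multiplicative (ZMod 2) × Matrix.ProjectiveSpecialLinearGroup (Fin 2) F) →
    (∃ m : ℕ, 1 ≤ m ∧ Fintype.card F = 3 ^ (2 * m + 1) ∧
        Nat.card G = (3 ^ (2 * m + 1)) ^ 3 * ((3 ^ (2 * m + 1)) ^ 3 + 1) * (3 ^ (2 * m + 1) - 1)) ∨
      ((Fintype.card F = 4 ∨ Fintype.card F = 5) ∧ Cfsg.IsJ1 G)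

theorem card_mod_eight_of_three_pow (n : ℕ) : 3 ^ (2 * n + 1) % 8 = 3 := by
  rw [pow_succ, pow_mul, Nat.mul_mod, Nat.pow_mod]; norm_num

theorem three_ne_zero_of_char_two {F : Type*} [Field F] [Fintype F] {n : ℕ} (_hn : n ≠ 0)
    (hF : Fintype.card F = 2 ^ n) : (3 : F) ≠ 0 := by
  intro h
  obtain ⟨p, hp⟩ := CharP.exists F
  obtain ⟨m, hpp, hm⟩ := FiniteField.card F p
  have h3 : p ∣ 3 := (CharP.cast_eq_zero_iff F p 3).1 (by exact_mod_cast h)
  have h2 : p ∣ 2 := hpp.dvd_of_dvd_pow (hF ▸ hm ▸ dvd_pow_self p m.ne_zero)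
  exact absurd ((Nat.prime_dvd_prime_iff_eq hpp Nat.prime_three).1 h3)
    (by rw [(Nat.prime_dvd_prime_iff_eq hpp Nat.prime_two).1 h2]; decide)

variable {G : Type u} [Group G] [Finite G]

/-- A group of Ree type has no section `S₄`. -/
theorem not_involves_S4_ree (h : Cfsg.IsReeType G) :
    ¬ Cfsg.Involves (Equiv.Perm (Fin 4)) G := by
  obtain ⟨-, -, t, K, n, -, ht, hidx, hint, F, _, _, hF, he⟩ := h
  obtain ⟨e⟩ := exists_equiv_of_internal ht hint he
  haveI : Fact (Nat.Prime 2) := ⟨Nat.prime_two⟩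
  have hab := abelian_sylow_ree hidx e (Or.inl (by rw [hF]; exact card_mod_eight_of_three_pow n))
  obtain ⟨S⟩ : Nonempty (Sylow 2 G) := inferInstance
  exact not_involves_S4_of_abelian ⟨S, ⟨⟨hab S⟩⟩⟩

/-- A group of Ree type has a section `S₃`. -/
theorem involves_S3_ree (H : ReeOrder.{u}) (h : Cfsg.IsReeType G) :
    Cfsg.Involves (Equiv.Perm (Fin 3)) G := by
  obtain ⟨hs, -, t, K, n, hn, ht, hidx, hint, F, _, _, hF, he⟩ := h
  haveI := hs
  by_contra hno
  obtain ⟨e⟩ := exists_equiv_of_internal ht hint he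
  have h8 := card_mod_eight_of_three_pow n
  have hab := abelian_sylow_ree hidx e (Or.inl (by rw [hF]; exact h8))
  haveI := charP_three (F := F) (n := 2 * n + 1) (by omega) hF
  have hle := factorization_three_le hno ht e (card_mod_four_of_three_pow hF)
  have h27 : 3 ^ 3 ≤ 3 ^ (2 * n + 1) := Nat.pow_le_pow_right (by norm_num) (by omega)
  rcases H G hab F (by rw [hF]; omega) t ht ⟨e⟩ with ⟨m, -, hm, hG⟩ | ⟨h45, -⟩
  · -- the full cube of `q` would divide the order of the centraliser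
    set q := Fintype.card F with hq
    have hd : 3 ^ (3 * (2 * m + 1)) ∣ Nat.card G := by
      rw [hG, mul_assoc, mul_comm 3, pow_mul]
      exact Dvd.intro _ rfl
    have h1 := (Nat.prime_three.pow_dvd_iff_le_factorization Nat.card_pos.ne').1 hd
    have h2 := (Nat.prime_three.pow_dvd_iff_le_factorization
      (Nat.card_pos (α := centralizer ({t} : Set G))).ne').2 (h1.trans hle)
    have hC : Nat.card (centralizer ({t} : Set G)) = q * (q - 1) * (q + 1) := by
      rw [Nat.card_congr e.toEquiv, Nat.card_prod, Nat.card_congr Multiplicative.toAdd,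
        Nat.card_zmod]
      exact Cfsg.Agent.Lib.Linear.two_mul_card_PSL_two_of_odd (F := F)
        (Nat.odd_iff.2 (by omega))
    have h3 := Nat.le_of_dvd Nat.card_pos h2
    rw [hC, mul_comm 3, pow_mul, ← hm] at h3
    obtain ⟨r, hr⟩ : ∃ r, q = r + 1 := ⟨q - 1, by omega⟩
    rw [hr] at h3
    simp only [Nat.add_sub_cancel] at h3
    nlinarith
  · omega

/-- `PSL₂(q)`, `q ≡ 3, 5 (mod 8)`, without a section `S₃` has `q` an odd power of three. -/
theorem odd_pow_three_of_noS3 {F : Type*} [Field F] [Fintype F]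
    (hq : Fintype.card F % 8 = 3 ∨ Fintype.card F % 8 = 5)
    (h : ¬ Cfsg.Involves (Equiv.Perm (Fin 3)) (Matrix.ProjectiveSpecialLinearGroup (Fin 2) F)) :
    ∃ n : ℕ, Fintype.card F = 3 ^ (2 * n + 1) := by
  have h3 : (3 : F) = 0 := by
    by_contra h3
    exact h (involves_S3_PSL h3)
  obtain ⟨p, hp⟩ := CharP.exists F
  obtain ⟨m, hpp, hm⟩ := FiniteField.card F p
  obtain rfl : p = 3 := (Nat.prime_dvd_prime_iff_eq hpp Nat.prime_three).1
    ((CharP.cast_eq_zero_iff F p 3).1 (by exact_mod_cast h3))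
  rcases Nat.even_or_odd' (m : ℕ) with ⟨k, hk | hk⟩
  · rw [hm, hk, pow_mul, Nat.pow_mod] at hq
    norm_num at hq
  · exact ⟨k, by rw [hm, hk]⟩

/-- Goldschmidt groups have no section `S₄`. -/
theorem not_involves_S4 (hG : Cfsg.IsGoldschmidtGroup G) :
    ¬ Cfsg.Involves (Equiv.Perm (Fin 4)) G := by
  rcases hG with h | h | h | h | h | h
  · exact not_involves_S4_ree h
  · obtain ⟨F, _, _, n, hn, hF, ⟨e⟩⟩ := h
    exact fun hi => not_involves_S4_of_abelian (abelian_sylow_PSL_even hF (by omega))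
      (involves_congr e hi)
  · have h3 := three_not_dvd_suzuki (BenderSuzuki.Wrappers.isSuzuki_of_iso h)
    refine not_involves_of_card fun hd => h3 (dvd_trans ?_ hd)
    rw [Nat.card_eq_fintype_card, Fintype.card_perm, Fintype.card_fin]; decide
  · obtain ⟨F, _, _, n, -, hF, ⟨e⟩⟩ := h
    have hF' : Fintype.card F = (2 ^ n) ^ 2 := by
      rw [hF, show (4 : ℕ) = 2 ^ 2 from rfl, ← pow_mul, ← pow_mul, mul_comm]
    exact fun hi => not_involves_S4_PSU hF' (involves_congr e hi)
  · obtain ⟨F, _, _, q, hF, -, hq, ⟨e⟩⟩ := h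
    exact fun hi => not_involves_S4_of_abelian
      (abelian_sylow (not_eight_dvd_card (F := F) (by rw [hF]; exact hq))) (involves_congr e hi)
  · obtain ⟨e⟩ := h
    haveI : Finite Cfsg.Spor.J1 := Finite.of_equiv G e.toEquiv
    exact fun hi => not_involves_S4_of_abelian abelian_sylow_J1 (involves_congr e hi)

/-- Suzuki groups and `PSL₂(3^odd)` have no section `S₃`. -/
theorem not_involves_S3_of_target (h : Cfsg.IsSuzukiOrPSL2OddPowerThree G) :
    ¬ Cfsg.Involves (Equiv.Perm (Fin 3)) G := by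
  rcases h with h | ⟨F, _, _, n, hF, ⟨e⟩⟩
  · have h3 := three_not_dvd_suzuki (BenderSuzuki.Wrappers.isSuzuki_of_iso h)
    refine not_involves_of_card fun hd => h3 (dvd_trans ?_ hd)
    rw [Nat.card_eq_fintype_card, Fintype.card_perm, Fintype.card_fin]; decide
  · haveI := charP_three (F := F) (n := 2 * n + 1) (by omega) hF
    exact fun hi => not_involves_S3_PSL (card_mod_four_of_three_pow hF) (involves_congr e hi)

/-- A Goldschmidt group without a section `S₃` is a Suzuki group or `PSL₂(3^odd)`. -/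
theorem target_of_noS3 (H : ReeOrder.{u}) (hG : Cfsg.IsGoldschmidtGroup G)
    (hno : ¬ Cfsg.Involves (Equiv.Perm (Fin 3)) G) : Cfsg.IsSuzukiOrPSL2OddPowerThree G := by
  rcases hG with h | h | h | h | h | h
  · exact absurd (involves_S3_ree H h) hno
  · obtain ⟨F, _, _, n, hn, hF, ⟨e⟩⟩ := h
    exact absurd (involves_congr e.symm
      (involves_S3_PSL (three_ne_zero_of_char_two (by omega) hF))) hno
  · exact Or.inl h
  · obtain ⟨F, _, _, n, -, hF, ⟨e⟩⟩ := h
    have hF' : Fintype.card F = (2 ^ n) ^ 2 := by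
      rw [hF, show (4 : ℕ) = 2 ^ 2 from rfl, ← pow_mul, ← pow_mul, mul_comm]
    exact absurd (involves_congr e.symm (involves_S3_PSU hF')) hno
  · obtain ⟨F, _, _, q, hF, -, hq, ⟨e⟩⟩ := h
    obtain ⟨n, hn⟩ := odd_pow_three_of_noS3 (F := F) (by rw [hF]; exact hq)
      fun hi => hno (involves_congr e.symm hi)
    exact Or.inr ⟨F, inferInstance, inferInstance, n, hn, ⟨e⟩⟩
  · obtain ⟨e⟩ := h
    exact absurd (involves_congr e.symm involves_S3_J1) hno

theorem main (H : ReeOrder.{u}) (hG : Cfsg.IsGoldschmidtGroup G) :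
    ¬ Cfsg.Involves (Equiv.Perm (Fin 4)) G ∧
      (¬ Cfsg.Involves (Equiv.Perm (Fin 3)) G ↔ Cfsg.IsSuzukiOrPSL2OddPowerThree G) :=
  ⟨not_involves_S4 hG, target_of_noS3 H hG, not_involves_S3_of_target⟩

end Cfsg.Agent.Lib.Goldschmidt92
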