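import Cfsg.Agent.Lib.Goldschmidt92.Involves
import Cfsg.Agent.Lib.Linear.Order
import Cfsg.Agent.Lib.PSLTwo.Sylow

/-!
`S₃` in `PSL₂(q)` and the normalisers of `3`-subgroups for `q` an odd power of three; abelian Sylow
2-subgroups.
-/

set_option autoImplicit false
set_option linter.style.haveILetI false
set_option linter.unusedSectionVars false

namespace Cfsg.Agent.Lib.Goldschmidt92

open Subgroup Matrix

section Psl

variable {F : Type*} [Field F]

local notation "SL" => Matrix.SpecialLinearGroup (Fin 2) F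
local notation "PSL" => Matrix.ProjectiveSpecialLinearGroup (Fin 2) F

theorem center_offdiag {g : SL} (h : g ∈ center SL) : g.1 0 1 = 0 ∧ g.1 1 0 = 0 ∧ g.1 0 0 = g.1 1 1 := by
  obtain ⟨r, -, hr⟩ := Matrix.SpecialLinearGroup.mem_center_iff.1 h
  rw [← hr]
  simp [Matrix.scalar_apply]

theorem center_cases {g : SL} (h : g ∈ center SL) : g = 1 ∨ g = PSLTwo.Sylow.negOne := by
  obtain ⟨h1, h2, h3⟩ := center_offdiag h
  exact PSLTwo.Sylow.scalar_cases fun hn => by
    simp [PSLTwo.Sylow.NonScalar, h1, h2, h3] at hn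

theorem exists_S3_param [Fintype F] (h3 : (3 : F) ≠ 0) :
    ∃ a c : F, -a ^ 2 + a * c - c ^ 2 = 1 := by
  rcases Nat.mod_two_eq_zero_or_one (Fintype.card F) with he | ho
  · haveI : CharP F 2 := by
      refine (FiniteField.even_card_iff_char_two.2 he) ▸ ringChar.charP F
    refine ⟨1, 0, ?_⟩
    have : (2 : F) = 0 := CharTwo.two_eq_zero
    linear_combination (-1 : F) * this
  · have h2 := PSLTwo.Sylow.two_ne_zero_of_odd (F := F) ho
    obtain ⟨u, v, h⟩ := PSLTwo.Sylow.exists_conic (F := F) ho (D := -3) (c := -4)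
      (neg_ne_zero.2 h3)
    refine ⟨(u + v) / 2, v, ?_⟩
    field_simp
    linear_combination -h

theorem involves_S3_PSL [Fintype F] (h3 : (3 : F) ≠ 0) :
    Cfsg.Involves (Equiv.Perm (Fin 3)) PSL := by
  obtain ⟨a, c, hac⟩ := exists_S3_param h3
  let x : SL := ⟨!![0, -1; 1, -1], by simp [Matrix.det_fin_two_of]⟩
  let t : SL := ⟨!![a, c - a; c, -a], by rw [Matrix.det_fin_two_of]; linear_combination hac⟩
  have hx : x ^ 3 = 1 := by
    refine Subtype.ext ?_
    rw [Matrix.SpecialLinearGroup.coe_pow, pow_three]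
    ext i j
    fin_cases i <;> fin_cases j <;> simp [x]
  have ht : t * t = PSLTwo.Sylow.negOne := by
    refine PSLTwo.Sylow.slExt ?_ ?_ ?_ ?_ <;>
      rw [PSLTwo.Sylow.mul_apply'] <;> simp [t] <;>
      first | ring1 | linear_combination -hac
  have htx : t * x = x⁻¹ * t := by
    refine PSLTwo.Sylow.slExt ?_ ?_ ?_ ?_ <;>
      rw [PSLTwo.Sylow.mul_apply', PSLTwo.Sylow.mul_apply', PSLTwo.Sylow.inv_apply'] <;>
      simp [t, x] <;> ring
  let π : SL →* PSL := QuotientGroup.mk' _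
  have hneg : π PSLTwo.Sylow.negOne = 1 := (QuotientGroup.eq_one_iff _).2
    (Subgroup.mem_center_iff.2 fun g => (PSLTwo.Sylow.negOne_central g).symm)
  refine involves_S3_of_inverted (x := π x) (t := π t) (by rw [← map_pow, hx, map_one]) ?_
    (by rw [← map_mul, ht, hneg]) ?_ ?_
  · intro h
    have := (center_offdiag ((QuotientGroup.eq_one_iff _).1 h)).2.1
    simp [x] at this
  · intro h
    obtain ⟨h1, h2, -⟩ := center_offdiag ((QuotientGroup.eq_one_iff _).1 h)
    simp [t] at h1 h2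
    have ha : a = 0 := by linear_combination h2 - h1
    rw [ha, h2] at hac
    simp at hac
  · rw [← map_mul, htx, map_mul, map_inv, mul_assoc, ← map_mul, ht, hneg, mul_one]

/-- In characteristic three with `-1` a non-square, no involution normalises a nontrivial `3`-group. -/
theorem three_local_odd [Fintype F] [CharP F 3] (hq : Fintype.card F % 4 = 3) (Q : Subgroup PSL)
    (hQ : IsPGroup 3 Q) (hQ1 : Q ≠ ⊥) (g : PSL) (hg : g ∈ normalizer (Q : Set PSL))
    (hg2 : g * g = 1) : g = 1 := by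
  haveI : Fact (Nat.Prime 3) := ⟨Nat.prime_three⟩
  have h2 : (2 : F) ≠ 0 := PSLTwo.Sylow.two_ne_zero_of_odd (F := F) (by omega)
  have hginv : g⁻¹ = g := inv_eq_of_mul_eq_one_left hg2
  -- an element centralised or inverted
  obtain ⟨y, hyQ, hy1, hy⟩ : ∃ y ∈ Q, y ≠ 1 ∧ (g * y * g⁻¹ = y ∨ g * y * g⁻¹ = y⁻¹) := by
    obtain ⟨z, hz, hz1⟩ := (Subgroup.ne_bot_iff_exists_ne_one.1 hQ1).elim fun z hz =>
      (⟨z.1, z.2, fun e => hz (Subtype.ext e)⟩ : ∃ z ∈ Q, z ≠ 1)
    by_cases hc : g * z * g⁻¹ = z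
    · exact ⟨z, hz, hz1, Or.inl hc⟩
    refine ⟨z⁻¹ * (g * z * g⁻¹), Q.mul_mem (Q.inv_mem hz) ((mem_normalizer_iff.1 hg z).1 hz),
      fun e => hc (eq_of_inv_mul_eq_one e).symm, Or.inr ?_⟩
    rw [hginv]
    calc g * (z⁻¹ * (g * z * g)) * g = g * z⁻¹ * g * z * (g * g) := by group
      _ = g * z⁻¹ * g * z := by rw [hg2, mul_one]
      _ = g⁻¹ * z⁻¹ * g⁻¹ * z := by rw [hginv]
      _ = (z⁻¹ * (g * z * g))⁻¹ := by group
  -- of order three
  obtain ⟨k, hk⟩ := hQ ⟨y, hyQ⟩
  have hk' : y ^ 3 ^ k = 1 := congrArg Subtype.val hk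
  obtain ⟨j, hj⟩ := (Nat.dvd_prime_pow Nat.prime_three).1 (orderOf_dvd_of_pow_eq_one hk')
  have hjpos : j ≠ 0 := fun e => hy1 (orderOf_eq_one_iff.1 (by rw [hj.2, e, pow_zero]))
  set x := y ^ 3 ^ (j - 1) with hxdef
  have hx3 : x ^ 3 = 1 := by
    rw [hxdef, ← pow_mul, ← pow_succ, Nat.sub_add_cancel (Nat.pos_of_ne_zero hjpos), ← hj.2,
      pow_orderOf_eq_one]
  have hx1 : x ≠ 1 := by
    intro e
    have h5 := orderOf_dvd_of_pow_eq_one e
    rw [hj.2] at h5
    have := (Nat.pow_dvd_pow_iff_le_right (by norm_num : 1 < 3)).1 h5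
    omega
  have hx : g * x * g⁻¹ = x ∨ g * x * g⁻¹ = x⁻¹ := by
    rw [hxdef, ← conj_pow]
    rcases hy with e | e
    · exact Or.inl (by rw [e])
    · exact Or.inr (by rw [e, inv_pow])
  -- lift to `SL₂`
  let π : SL →* PSL := QuotientGroup.mk' _
  have hker : ∀ u : SL, π u = 1 → u = 1 ∨ u = PSLTwo.Sylow.negOne := fun u hu =>
    center_cases ((QuotientGroup.eq_one_iff _).1 hu)
  have hnn : (PSLTwo.Sylow.negOne : SL) ≠ 1 := PSLTwo.Sylow.negOne_ne_one h2
  obtain ⟨X0, hX0⟩ := QuotientGroup.mk'_surjective (center SL) x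
  obtain ⟨G0, hG0⟩ := QuotientGroup.mk'_surjective (center SL) g
  change π X0 = x at hX0
  change π G0 = g at hG0
  let X := X0 ^ 4
  have hX : π X = x := by
    show π (X0 ^ 4) = x
    rw [map_pow, hX0, pow_succ, hx3, one_mul]
  have hX3 : X ^ 3 = 1 := by
    show (X0 ^ 4) ^ 3 = 1
    rw [← pow_mul, show 4 * 3 = 3 * 2 * 2 by norm_num, pow_mul, pow_mul]
    rcases hker (X0 ^ 3) (by rw [map_pow, hX0, hx3]) with e | e <;> rw [e]
    · rw [one_pow, one_pow]
    · rw [pow_two, pow_two, PSLTwo.Sylow.negOne_sq, one_mul]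
  have hXne : X ≠ 1 := fun e => hx1 (by rw [← hX, e, map_one])
  -- `G0` normalises `⟨X⟩`
  obtain ⟨E, hEX, hE⟩ : ∃ E : SL, (E = X ∨ E = X⁻¹) ∧ G0 * X * G0⁻¹ = E := by
    obtain ⟨E, hEX, hE⟩ : ∃ E : SL, (E = X ∨ E = X⁻¹) ∧ π (G0 * X * G0⁻¹) = π E := by
      rcases hx with e | e
      · exact ⟨X, Or.inl rfl, by rw [map_mul, map_mul, map_inv, hX, hG0, e]⟩
      · exact ⟨X⁻¹, Or.inr rfl, by rw [map_mul, map_mul, map_inv, hX, hG0, e, map_inv, hX]⟩
    refine ⟨E, hEX, ?_⟩
    have hE3 : E ^ 3 = 1 := by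
      rcases hEX with rfl | rfl <;> simp [hX3]
    rcases hker ((G0 * X * G0⁻¹) * E⁻¹) (by rw [map_mul, hE, ← map_mul, mul_inv_cancel, map_one])
      with e | e
    · exact mul_inv_eq_one.1 e
    · exfalso
      have e' : G0 * X * G0⁻¹ = PSLTwo.Sylow.negOne * E := by rw [← e, inv_mul_cancel_right]
      have := congrArg (· ^ 3) e'
      simp only [conj_pow, hX3, mul_one, mul_inv_cancel,
        (show Commute PSLTwo.Sylow.negOne E from PSLTwo.Sylow.negOne_central E).mul_pow, hE3] at this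
      rw [pow_succ, pow_two, PSLTwo.Sylow.negOne_sq, one_mul] at this
      exact hnn this.symm
  -- a fixed vector of `X`
  have hdet : (X.1 - 1).det = 0 := by
    haveI : CharP (Matrix (Fin 2) (Fin 2) F) 3 := inferInstance
    have h0 : (X.1 - 1) ^ 3 = 0 := by
      rw [sub_pow_char_of_commute 3 (Commute.one_right _), one_pow,
        ← Matrix.SpecialLinearGroup.coe_pow, hX3, Matrix.SpecialLinearGroup.coe_one, sub_self]
    have := congrArg Matrix.det h0
    rw [Matrix.det_pow, Matrix.det_zero] at this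
    exact pow_eq_zero_iff (by norm_num) |>.1 this
  obtain ⟨v, hv0, hv⟩ := Matrix.exists_mulVec_eq_zero_iff.2 hdet
  rw [Matrix.sub_mulVec, Matrix.one_mulVec, sub_eq_zero] at hv
  have hEv : E.1 *ᵥ v = v := by
    rcases hEX with rfl | rfl
    · exact hv
    · conv_lhs => rw [← hv]
      rw [Matrix.mulVec_mulVec, ← Matrix.SpecialLinearGroup.coe_mul, inv_mul_cancel,
        Matrix.SpecialLinearGroup.coe_one, Matrix.one_mulVec]
  set w := G0.1 *ᵥ v with hw
  have hEw : E.1 *ᵥ w = w := by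
    rw [hw, Matrix.mulVec_mulVec, ← Matrix.SpecialLinearGroup.coe_mul, ← hE,
      inv_mul_cancel_right, Matrix.SpecialLinearGroup.coe_mul, ← Matrix.mulVec_mulVec, hv]
  -- the two vectors are dependent
  have hdep : v 0 * w 1 - v 1 * w 0 = 0 := by
    by_contra hd
    refine hXne ?_
    suffices hE1 : E = 1 by
      rcases hEX with e | e
      · rw [← e, hE1]
      · rw [← inv_inv X, ← e, hE1, inv_one]
    have hM : (!![v 0, w 0; v 1, w 1] : Matrix (Fin 2) (Fin 2) F).det ≠ 0 := by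
      rw [Matrix.det_fin_two_of]
      exact fun e => hd (by linear_combination e)
    have hEM : E.1 * !![v 0, w 0; v 1, w 1] = !![v 0, w 0; v 1, w 1] := by
      ext i j
      have e1 := congrFun hEv i
      have e2 := congrFun hEw i
      simp [Matrix.mulVec, dotProduct] at e1 e2
      fin_cases i <;> fin_cases j <;> simp [Matrix.mul_apply] <;> simp_all
    refine Subtype.ext ?_
    have hu := (Matrix.isUnit_iff_isUnit_det _).2 (isUnit_iff_ne_zero.2 hM)
    exact hu.mul_right_cancel (by rw [hEM, Matrix.SpecialLinearGroup.coe_one, one_mul])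
  obtain ⟨l, hl⟩ : ∃ l : F, w = l • v := by
    by_cases h0 : v 0 = 0
    · have h1 : v 1 ≠ 0 := fun e => hv0 (funext fun i => by fin_cases i <;> assumption)
      refine ⟨w 1 / v 1, funext fun i => ?_⟩
      fin_cases i
      · rw [h0] at hdep
        simp [h0]
        simpa [h1] using hdep
      · simp [h1]
    · refine ⟨w 0 / v 0, funext fun i => ?_⟩
      fin_cases i
      · simp [h0]
      · show w 1 = w 0 / v 0 * v 1
        field_simp
        linear_combination hdep
  -- the square of `G0`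
  rcases hker (G0 * G0) (by rw [map_mul, hG0, hg2]) with e | e
  · rcases PSLTwo.Sylow.sq_eq_one h2 e with e' | e' <;> rw [← hG0, e']
    · exact map_one π
    · exact (QuotientGroup.eq_one_iff _).2
        (Subgroup.mem_center_iff.2 fun g => (PSLTwo.Sylow.negOne_central g).symm)
  · exfalso
    have h4 : (G0 * G0).1 *ᵥ v = (l * l) • v := by
      rw [Matrix.SpecialLinearGroup.coe_mul, ← Matrix.mulVec_mulVec, ← hw, hl, Matrix.mulVec_smul,
        ← hw, hl, smul_smul]
    rw [e] at h4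
    obtain ⟨i, hi⟩ := Function.ne_iff.1 hv0
    have h5 := congrFun h4 i
    have h6 : (l * l) = -1 := by
      refine mul_right_cancel₀ (show v i ≠ 0 from hi) ?_
      fin_cases i <;>
        simp [PSLTwo.Sylow.negOne, Matrix.mulVec, dotProduct, Pi.smul_apply] at h5 ⊢ <;>
        linear_combination -h5
    have hsq : IsSquare (-1 : F) := ⟨l, h6.symm⟩
    rw [FiniteField.isSquare_neg_one_iff] at hsq
    omega

theorem not_involves_S3_PSL [Fintype F] [CharP F 3] (hq : Fintype.card F % 4 = 3) :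
    ¬ Cfsg.Involves (Equiv.Perm (Fin 3)) PSL :=
  not_involves_S3 (three_local_odd hq)

theorem card_mod_four_of_three_pow [Fintype F] {n : ℕ} (hF : Fintype.card F = 3 ^ (2 * n + 1)) :
    Fintype.card F % 4 = 3 := by
  rw [hF, pow_succ, pow_mul, Nat.mul_mod, Nat.pow_mod]; norm_num

theorem charP_three [Fintype F] {n : ℕ} (_hn : n ≠ 0) (hF : Fintype.card F = 3 ^ n) : CharP F 3 := by
  obtain ⟨p, hp⟩ := CharP.exists F
  obtain ⟨m, hpp, hm⟩ := FiniteField.card F p
  have : p = 3 := (Nat.prime_dvd_prime_iff_eq hpp Nat.prime_three).1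
    (hpp.dvd_of_dvd_pow (hF ▸ hm ▸ dvd_pow_self p m.ne_zero))
  exact this ▸ hp

/-- `|PSL₂(q)|` is not divisible by eight when `q ≡ 3, 5 (mod 8)`. -/
theorem not_eight_dvd_card [Fintype F] (hq : Fintype.card F % 8 = 3 ∨ Fintype.card F % 8 = 5) :
    ¬ 8 ∣ Nat.card PSL := by
  have h := Cfsg.Agent.Lib.Linear.two_mul_card_PSL_two_of_odd (F := F)
    (Nat.odd_iff.2 (by omega))
  intro hd
  obtain ⟨c, hc⟩ := hd
  rw [hc] at h
  set q := Fintype.card F
  have h16 : 16 ∣ q * (q - 1) * (q + 1) := ⟨c, by rw [← h]; ring⟩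
  rw [Nat.dvd_iff_mod_eq_zero, Nat.mul_mod, Nat.mul_mod q] at h16
  have hq16 : q % 16 = 3 ∨ q % 16 = 11 ∨ q % 16 = 5 ∨ q % 16 = 13 := by omega
  have hm : (q - 1) % 16 = (q % 16 + 15) % 16 := by omega
  have hp : (q + 1) % 16 = (q % 16 + 1) % 16 := by omega
  rcases hq16 with e | e | e | e <;> rw [hm, hp, e] at h16 <;> norm_num at h16

end Psl

section Abelian

variable {G : Type*} [Group G] [Finite G]

theorem comm_of_two_group (h : ¬ 8 ∣ Nat.card G) {P : Subgroup G} (hP : IsPGroup 2 P) :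
    ∀ a ∈ P, ∀ b ∈ P, a * b = b * a := by
  haveI : Fact (Nat.Prime 2) := ⟨Nat.prime_two⟩
  obtain ⟨k, hk⟩ := IsPGroup.iff_card.1 hP
  have hk3 : k < 3 := by
    by_contra hc
    exact h ((pow_dvd_pow 2 (not_lt.1 hc)).trans (hk ▸ P.card_subgroup_dvd_card))
  have hcomm : ∀ x y : P, x * y = y * x := by
    interval_cases k
    · intro x y
      haveI : Subsingleton P := (Nat.card_eq_one_iff_unique.1 (by simpa using hk)).1
      exact Subsingleton.elim _ _
    · haveI : IsCyclic P := isCyclic_of_prime_card (p := 2) (by simpa using hk)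
      intro x y
      exact IsCyclic.commGroup.mul_comm x y
    · exact fun x y => (IsPGroup.commGroupOfCardEqPrimeSq hk).mul_comm x y
  intro a ha b hb
  exact congrArg Subtype.val (hcomm ⟨a, ha⟩ ⟨b, hb⟩)

theorem abelian_sylow (h : ¬ 8 ∣ Nat.card G) : ∃ S : Sylow 2 G, IsMulCommutative (S : Subgroup G) := by
  haveI : Fact (Nat.Prime 2) := ⟨Nat.prime_two⟩
  obtain ⟨S⟩ : Nonempty (Sylow 2 G) := inferInstance
  exact ⟨S, ⟨⟨fun a b => Subtype.ext (comm_of_two_group h S.isPGroup' a a.2 b b.2)⟩⟩⟩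

end Abelian

end Cfsg.Agent.Lib.Goldschmidt92
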