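import Mathlib
import Cfsg.Prelude.Def_LocalEven

/-!
Elementary criteria for a section isomorphic to `S₃` or `S₄`.
-/

set_option autoImplicit false
set_option linter.style.haveILetI false

namespace Cfsg.Agent.Lib.Goldschmidt92

open Subgroup

/-- `r i ↦ cⁱ`, `sr i ↦ s cⁱ`. -/
def dihedralPerm : DihedralGroup 3 → Equiv.Perm (Fin 3)
  | .r i => finRotate 3 ^ i.val
  | .sr i => Equiv.swap 0 1 * finRotate 3 ^ i.val

theorem dihedralPerm_mul : ∀ a b : DihedralGroup 3,
    dihedralPerm (a * b) = dihedralPerm a * dihedralPerm b := by decide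

theorem dihedralPerm_bijective : Function.Bijective dihedralPerm := by
  rw [Fintype.bijective_iff_injective_and_card]
  exact ⟨by decide, by decide⟩

/-- `D₆ ≅ S₃`. -/
noncomputable def dihedralEquiv : DihedralGroup 3 ≃* Equiv.Perm (Fin 3) :=
  MulEquiv.ofBijective (MonoidHom.mk' dihedralPerm dihedralPerm_mul) dihedralPerm_bijective

section congr

variable {H : Type*} [Group H] {G : Type*} [Group G]

theorem involves_of_injective (f : H →* G) (hf : Function.Injective f) : Cfsg.Involves H G := by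
  haveI : (((⊥ : Subgroup G)).subgroupOf f.range).Normal := by
    rw [bot_subgroupOf]; infer_instance
  exact ⟨f.range, ⊥, inferInstance,
    ⟨((QuotientGroup.quotientMulEquivOfEq (bot_subgroupOf _)).trans
      (QuotientGroup.quotientBot)).trans (MonoidHom.ofInjective hf).symm⟩⟩

theorem exists_hom_of_involves (h : Cfsg.Involves H G) :
    ∃ (K : Subgroup G) (f : ↥K →* H), Function.Surjective f := by
  obtain ⟨K, R, hn, ⟨e⟩⟩ := h
  exact ⟨K, e.toMonoidHom.comp (QuotientGroup.mk' _),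
    e.surjective.comp (QuotientGroup.mk'_surjective _)⟩

theorem involves_congr {G' : Type*} [Group G'] (e : G ≃* G') (h : Cfsg.Involves H G) :
    Cfsg.Involves H G' := by
  obtain ⟨K, R, hn, ⟨φ⟩⟩ := h
  haveI := hn
  have hR : (R.map e.toMonoidHom).subgroupOf (K.map e.toMonoidHom) =
      (R.subgroupOf K).map (e.subgroupMap K).toMonoidHom := by
    ext ⟨x, hx⟩
    constructor
    · intro h'
      obtain ⟨r, hr, hrx⟩ := mem_subgroupOf.1 h'
      obtain ⟨k, hk, hkx⟩ := hx
      obtain rfl : r = k := e.injective (hrx.trans hkx.symm)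
      exact ⟨⟨r, hk⟩, mem_subgroupOf.2 hr, Subtype.ext hrx⟩
    · rintro ⟨⟨k, hk⟩, hkR, hkx⟩
      exact mem_subgroupOf.2 ⟨k, mem_subgroupOf.1 hkR, congrArg Subtype.val hkx⟩
  have hn' : ((R.map e.toMonoidHom).subgroupOf (K.map e.toMonoidHom)).Normal :=
    hR ▸ hn.map _ (e.subgroupMap K).surjective
  refine ⟨K.map e.toMonoidHom, R.map e.toMonoidHom, hn', ?_⟩
  letI := hn'
  exact ⟨(QuotientGroup.congr (R.subgroupOf K) ((R.map e.toMonoidHom).subgroupOf (K.map e.toMonoidHom))
    (e.subgroupMap K) hR.symm).symm.trans φ⟩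

end congr

variable {G : Type*} [Group G]

/-- An element of order three inverted by an involution generates `S₃` with it. -/
theorem involves_S3_of_inverted {x t : G} (hx : x ^ 3 = 1) (hx1 : x ≠ 1) (ht : t * t = 1)
    (ht1 : t ≠ 1) (hinv : t * x * t = x⁻¹) : Cfsg.Involves (Equiv.Perm (Fin 3)) G := by
  have hox : orderOf x = 3 := orderOf_eq_prime hx hx1
  let c : ZMod 3 → G := fun i => x ^ i.val
  have hadd : ∀ i j, c (i + j) = c i * c j := by
    intro i j
    show x ^ (i + j).val = x ^ i.val * x ^ j.val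
    rw [← pow_add, pow_eq_pow_iff_modEq, hox, ZMod.val_add]
    exact Nat.mod_modEq _ _
  have hneg : ∀ i, c i * t = t * c (-i) := by
    intro i
    have hc : c (-i) = (c i)⁻¹ := by
      refine eq_inv_of_mul_eq_one_left ?_
      rw [← hadd, neg_add_cancel]; simp [c]
    have hp : t * x ^ i.val * t = x⁻¹ ^ i.val := by
      have hti : t⁻¹ = t := inv_eq_of_mul_eq_one_left ht
      rw [← hinv]
      conv_lhs => rw [show t * x ^ i.val * t = t * x ^ i.val * t⁻¹ by rw [hti]]
      rw [← conj_pow, hti]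
    rw [hc]
    show x ^ i.val * t = t * (x ^ i.val)⁻¹
    rw [← inv_pow, ← hp, ← mul_assoc, ← mul_assoc, ht, one_mul]
  let f : DihedralGroup 3 →* G := MonoidHom.mk'
    (fun a => match a with | .r i => c i | .sr i => t * c i) (by
      rintro (i | i) (j | j)
      · exact hadd i j
      · show t * c (j - i) = c i * (t * c j)
        rw [← mul_assoc, hneg, mul_assoc, ← hadd, sub_eq_neg_add]
      · show t * c (i + j) = t * c i * c j
        rw [mul_assoc, ← hadd]
      · show c (j - i) = t * c i * (t * c j)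
        rw [mul_assoc, ← mul_assoc (c i), hneg, mul_assoc, ← mul_assoc t, ht, one_mul, ← hadd,
          sub_eq_neg_add])
  have hf : Function.Injective f := by
    rw [injective_iff_map_eq_one]
    rintro (i | i) h
    · change x ^ i.val = 1 at h
      rw [← orderOf_dvd_iff_pow_eq_one, hox] at h
      have hi := ZMod.val_lt i
      have hi0 : i.val = 0 := Nat.eq_zero_of_dvd_of_lt h hi
      rw [(ZMod.val_eq_zero i).1 hi0]; rfl
    · exfalso
      change t * x ^ i.val = 1 at h
      have htx : t = (x ^ i.val)⁻¹ := eq_inv_of_mul_eq_one_left h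
      have hd : orderOf t ∣ 3 := by
        rw [orderOf_dvd_iff_pow_eq_one, htx, inv_pow, ← pow_mul, mul_comm, pow_mul, hx, one_pow,
          inv_one]
      rw [orderOf_eq_prime (p := 2) (by rw [pow_two, ht]) ht1] at hd
      norm_num at hd
  exact involves_of_injective (f.comp dihedralEquiv.symm.toMonoidHom)
    (hf.comp dihedralEquiv.symm.injective)

variable [Finite G]

/-- The Frattini argument for a section with a normal `p`-subgroup. -/
theorem exists_local_cover {H : Type*} [Group H] [Finite H] {p : ℕ} [Fact p.Prime] {K : Subgroup G}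
    (f : ↥K →* H) (hf : Function.Surjective f) (V : Subgroup H) [V.Normal] (hV : IsPGroup p ↥V)
    (hV1 : V ≠ ⊥) :
    ∃ (Q : Subgroup G) (L : Subgroup G), IsPGroup p Q ∧ Q ≠ ⊥ ∧ L ≤ normalizer (Q : Set G) ∧
      ∃ g : ↥L →* H, Function.Surjective g := by
  classical
  set T := V.comap f
  let P : Sylow p T := default
  set P' : Subgroup K := (P : Subgroup T).map T.subtype with hP'
  have hsurj : Function.Surjective (f.subgroupComap V) := fun ⟨v, hv⟩ => by
    obtain ⟨k, hk⟩ := hf v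
    exact ⟨⟨k, by simpa [T, hk] using hv⟩, Subtype.ext hk⟩
  have hcov : (P : Subgroup T).map (f.subgroupComap V) = ⊤ := by
    let S := P.mapSurjective hsurj
    have hS : (S : Subgroup V) = ⊤ :=
      (S.is_maximal' (hV.to_subgroup ⊤) le_top).symm
    simpa [S] using hS
  refine ⟨P'.map K.subtype, (normalizer (P' : Set K)).map K.subtype,
    (P.isPGroup'.map _).map _, ?_, ?_, ?_⟩
  · intro h
    rw [map_eq_bot_iff_of_injective _ K.subtype_injective, hP',
      map_eq_bot_iff_of_injective _ T.subtype_injective] at h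
    refine hV1 ?_
    rw [h, Subgroup.map_bot] at hcov
    refine (Subgroup.eq_bot_iff_forall _).2 fun v hv => ?_
    have h1 : (⟨v, hv⟩ : V) ∈ (⊥ : Subgroup V) := hcov.symm ▸ mem_top _
    exact congrArg Subtype.val (Subgroup.mem_bot.1 h1)
  · rintro _ ⟨k, hk, rfl⟩
    exact le_normalizer_map K.subtype ⟨k, hk, rfl⟩
  · let N := normalizer (P' : Set K)
    refine ⟨(f.comp N.subtype).comp
      (N.equivMapOfInjective K.subtype K.subtype_injective).symm.toMonoidHom, ?_⟩
    rw [MonoidHom.coe_comp]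
    refine Function.Surjective.comp ?_
      (N.equivMapOfInjective K.subtype K.subtype_injective).symm.surjective
    intro h
    obtain ⟨k, hk⟩ := hf h
    have hkT : k ∈ N ⊔ T := (Sylow.normalizer_sup_eq_top P).symm ▸ mem_top k
    rw [mem_sup_of_normal_right] at hkT
    obtain ⟨n, hn, v, hv, rfl⟩ := hkT
    have hv' : (⟨f v, hv⟩ : V) ∈ (P : Subgroup T).map (f.subgroupComap V) := hcov.symm ▸ mem_top _
    obtain ⟨u, hu, huv⟩ := hv'
    have hfu : f (u : K) = f v := congrArg Subtype.val huv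
    refine ⟨⟨n * (u : K), mul_mem hn (le_normalizer ⟨u, hu, rfl⟩)⟩, ?_⟩
    show f (n * (u : K)) = h
    rw [map_mul, hfu, ← map_mul, hk]

/-- Above an element of `p`-power order there is an element of `p`-power order. -/
theorem exists_pElt_above {H : Type*} [Group H] {p : ℕ} [Fact p.Prime] {X : Type*} [Group X]
    [Finite X] (f : X →* H) (hf : Function.Surjective f) {h : H} {k : ℕ} (hh : h ^ p ^ k = 1) :
    ∃ x : X, (∃ j : ℕ, x ^ p ^ j = 1) ∧ f x = h := by
  obtain ⟨y, rfl⟩ := hf h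
  obtain ⟨a, m, hm, hy⟩ :=
    Nat.exists_eq_pow_mul_and_not_dvd (orderOf_pos y).ne' p (Fact.out : p.Prime).ne_one
  have hcop : Nat.Coprime m (p ^ k) :=
    Nat.Coprime.pow_right k ((Fact.out : p.Prime).coprime_iff_not_dvd.2 hm).symm
  rcases Nat.eq_zero_or_pos k with rfl | hk
  · refine ⟨1, ⟨0, one_pow _⟩, ?_⟩
    rw [map_one]; simpa using hh.symm
  obtain ⟨b, -, hb⟩ := Nat.exists_mul_mod_eq_one_of_coprime hcop
    (Nat.one_lt_pow hk.ne' (Fact.out : p.Prime).one_lt)
  refine ⟨y ^ (m * b), ⟨a, ?_⟩, ?_⟩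
  · rw [← pow_mul, show m * b * p ^ a = p ^ a * m * b by ring, ← hy, pow_mul, pow_orderOf_eq_one,
      one_pow]
  · rw [map_pow, ← Nat.mod_add_div (m * b) (p ^ k), hb, pow_add, pow_mul, hh, one_pow, mul_one,
      pow_one]

/-- If every `3`-local subgroup has odd order then there is no section `S₃`. -/
theorem not_involves_S3
    (h : ∀ Q : Subgroup G, IsPGroup 3 Q → Q ≠ ⊥ → ∀ g ∈ normalizer (Q : Set G), g * g = 1 → g = 1) :
    ¬ Cfsg.Involves (Equiv.Perm (Fin 3)) G := by
  intro hi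
  haveI : Fact (Nat.Prime 2) := ⟨Nat.prime_two⟩
  haveI : Fact (Nat.Prime 3) := ⟨Nat.prime_three⟩
  obtain ⟨K, f, hf⟩ := exists_hom_of_involves hi
  have hc : Nat.card (alternatingGroup (Fin 3)) = 3 ^ 1 := by
    rw [Nat.card_eq_fintype_card]; decide
  obtain ⟨Q, L, hQ, hQ1, hLQ, g, hg⟩ := exists_local_cover f hf (alternatingGroup (Fin 3))
    (IsPGroup.of_card hc) (fun e => by rw [e, Subgroup.card_bot] at hc; norm_num at hc)
  have h2 : 2 ∣ Nat.card L :=
    (show 2 ∣ Nat.card (Equiv.Perm (Fin 3)) by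
      rw [Nat.card_eq_fintype_card]; decide).trans (Subgroup.card_dvd_of_surjective g hg)
  obtain ⟨x, hx⟩ := exists_prime_orderOf_dvd_card' 2 h2
  have hx2 : x * x = 1 := by rw [← pow_two, ← hx, pow_orderOf_eq_one]
  have := h Q hQ hQ1 x (hLQ x.2) (by rw [← Subgroup.coe_mul, hx2, Subgroup.coe_one])
  rw [show x = 1 from Subtype.ext this, orderOf_one] at hx
  norm_num at hx

/-- If in every `2`-local subgroup the product of two `2`-elements is a `2`-element then there is
no section `S₄`. -/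
theorem not_involves_S4_of_local
    (h : ∀ Q : Subgroup G, IsPGroup 2 Q → Q ≠ ⊥ → ∀ a ∈ normalizer (Q : Set G),
      ∀ b ∈ normalizer (Q : Set G), (∃ i : ℕ, a ^ 2 ^ i = 1) → (∃ i : ℕ, b ^ 2 ^ i = 1) →
        ∃ i : ℕ, (a * b) ^ 2 ^ i = 1) :
    ¬ Cfsg.Involves (Equiv.Perm (Fin 4)) G := by
  intro hi
  haveI : Fact (Nat.Prime 2) := ⟨Nat.prime_two⟩
  obtain ⟨K, f, hf⟩ := exists_hom_of_involves hi
  let a4 : Equiv.Perm (Fin 4) := Equiv.swap 0 1 * Equiv.swap 2 3
  let b4 : Equiv.Perm (Fin 4) := Equiv.swap 0 2 * Equiv.swap 1 3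
  let V : Subgroup (Equiv.Perm (Fin 4)) :=
    { carrier := {σ | σ = 1 ∨ σ = a4 ∨ σ = b4 ∨ σ = a4 * b4}
      one_mem' := Or.inl rfl
      mul_mem' := fun {x y} hx hy => by
        rcases hx with rfl | rfl | rfl | rfl <;> rcases hy with rfl | rfl | rfl | rfl <;> decide
      inv_mem' := fun {x} hx => by rcases hx with rfl | rfl | rfl | rfl <;> decide }
  letI : DecidablePred (· ∈ V) := fun σ =>
    decidable_of_iff (σ = 1 ∨ σ = a4 ∨ σ = b4 ∨ σ = a4 * b4) Iff.rfl
  haveI : V.Normal := ⟨fun x hx g => by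
    revert g
    rcases hx with rfl | rfl | rfl | rfl <;> decide⟩
  have hc : Nat.card V = 2 ^ 2 := by rw [Nat.card_eq_fintype_card]; decide
  obtain ⟨Q, L, hQ, hQ1, hLQ, g, hg⟩ := exists_local_cover f hf V
    (IsPGroup.of_card hc) (fun e => by rw [e, Subgroup.card_bot] at hc; norm_num at hc)
  obtain ⟨a, ⟨i, ha⟩, hga⟩ := exists_pElt_above (p := 2) (k := 1) g hg
    (show (Equiv.swap (0 : Fin 4) 1) ^ 2 ^ 1 = 1 by decide)
  obtain ⟨b, ⟨j, hb⟩, hgb⟩ := exists_pElt_above (p := 2) (k := 1) g hg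
    (show (Equiv.swap (1 : Fin 4) 2) ^ 2 ^ 1 = 1 by decide)
  obtain ⟨n, hn⟩ := h Q hQ hQ1 a (hLQ a.2) b (hLQ b.2)
    ⟨i, by rw [← SubgroupClass.coe_pow, ha, OneMemClass.coe_one]⟩
    ⟨j, by rw [← SubgroupClass.coe_pow, hb, OneMemClass.coe_one]⟩
  have h1 : (a * b) ^ 2 ^ n = 1 := Subtype.ext (by simpa using hn)
  have h2 := congrArg g h1
  rw [map_pow, map_mul, hga, hgb, map_one] at h2
  have h3 : orderOf (Equiv.swap (0 : Fin 4) 1 * Equiv.swap 1 2) = 3 :=
    orderOf_eq_prime (by decide) (by decide)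
  have h4 := h3 ▸ orderOf_dvd_of_pow_eq_one h2
  exact absurd (Nat.prime_three.dvd_of_dvd_pow h4) (by norm_num)

/-- A group with abelian Sylow 2-subgroups has no section `S₄`. -/
theorem not_involves_S4_of_abelian
    (h : ∃ S : Sylow 2 G, IsMulCommutative (S : Subgroup G)) :
    ¬ Cfsg.Involves (Equiv.Perm (Fin 4)) G := by
  intro hi
  haveI : Fact (Nat.Prime 2) := ⟨Nat.prime_two⟩
  obtain ⟨K, f, hf⟩ := exists_hom_of_involves hi
  let P : Sylow 2 K := default
  obtain ⟨S, hS⟩ := h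
  obtain ⟨U, hPU⟩ := (P.isPGroup'.map K.subtype).exists_le_sylow
  obtain ⟨g, rfl⟩ := MulAction.exists_smul_eq G S U
  have hab : ∀ a ∈ (P : Subgroup K), ∀ b ∈ (P : Subgroup K), a * b = b * a := by
    intro a ha b hb
    obtain ⟨u, hu, hua⟩ := hPU ⟨a, ha, rfl⟩
    obtain ⟨v, hv, hvb⟩ := hPU ⟨b, hb, rfl⟩
    refine Subtype.ext ?_
    change g * u * g⁻¹ = (a : G) at hua
    change g * v * g⁻¹ = (b : G) at hvb
    show (a : G) * b = b * a
    have huv : u * v = v * u := congrArg Subtype.val (hS.is_comm.comm ⟨u, hu⟩ ⟨v, hv⟩)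
    calc (a : G) * b = g * (u * v) * g⁻¹ := by rw [← hua, ← hvb]; group
      _ = g * (v * u) * g⁻¹ := by rw [huv]
      _ = b * a := by rw [← hua, ← hvb]; group
  let P' := P.mapSurjective hf
  have hab' : ∀ a ∈ (P' : Subgroup (Equiv.Perm (Fin 4))), ∀ b ∈ (P' : Subgroup (Equiv.Perm (Fin 4))),
      a * b = b * a := by
    rintro _ ⟨a, ha, rfl⟩ _ ⟨b, hb, rfl⟩
    rw [← map_mul, ← map_mul, hab a ha b hb]
  -- a Sylow 2-subgroup containing two noncommuting 2-elements
  let D : Subgroup (Equiv.Perm (Fin 4)) :=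
    { carrier := {σ | ({σ 0, σ 2} : Finset (Fin 4)) = {0, 2} ∨ ({σ 0, σ 2} : Finset (Fin 4)) = {1, 3}}
      one_mem' := by decide
      mul_mem' := fun {x y} hx hy => by revert hx hy; revert x y; decide
      inv_mem' := fun {x} hx => by revert hx; revert x; decide }
  letI : DecidablePred (· ∈ D) := fun σ => decidable_of_iff
    (({σ 0, σ 2} : Finset (Fin 4)) = {0, 2} ∨ ({σ 0, σ 2} : Finset (Fin 4)) = {1, 3}) Iff.rfl
  obtain ⟨U, hDU⟩ := (IsPGroup.of_card (p := 2) (n := 3)
    (show Nat.card D = 2 ^ 3 by rw [Nat.card_eq_fintype_card]; decide)).exists_le_sylow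
  obtain ⟨g, rfl⟩ := MulAction.exists_smul_eq (Equiv.Perm (Fin 4)) P' U
  obtain ⟨u, hu, hua⟩ := hDU (show Equiv.swap (0 : Fin 4) 2 ∈ D by decide)
  obtain ⟨v, hv, hvb⟩ := hDU (show Equiv.swap (0 : Fin 4) 1 * Equiv.swap 2 3 ∈ D by decide)
  have : Equiv.swap (0 : Fin 4) 2 * (Equiv.swap 0 1 * Equiv.swap 2 3) =
      (Equiv.swap 0 1 * Equiv.swap 2 3) * Equiv.swap 0 2 := by
    change g * u * g⁻¹ = _ at hua
    change g * v * g⁻¹ = _ at hvb
    rw [← hvb, ← hua]
    calc g * u * g⁻¹ * (g * v * g⁻¹) = g * (u * v) * g⁻¹ := by group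
      _ = g * (v * u) * g⁻¹ := by rw [hab' u hu v hv]
      _ = g * v * g⁻¹ * (g * u * g⁻¹) := by group
  revert this; decide

end Cfsg.Agent.Lib.Goldschmidt92
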