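import Cfsg.Agent.Lib.Goldschmidt92.PSL
import Cfsg.Agent.Lib.QdFree.Unitary
import Cfsg.Agent.Lib.U3Sylow.Field
import Cfsg.Agent.Lib.J1Cent.Main
import Cfsg.Agent.Lib.BenderSuzuki.Wrappers.Cases

/-!
The even `PSL₂`, the unitary groups, the Suzuki groups and `J₁`.
-/

set_option autoImplicit false
set_option linter.style.haveILetI false
set_option linter.unusedSectionVars false

namespace Cfsg.Agent.Lib.Goldschmidt92

open Subgroup Matrix

theorem involves_of_surjective {H G G' : Type*} [Group H] [Group G] [Group G'] (π : G →* G')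
    (hπ : Function.Surjective π) (h : Cfsg.Involves H G') : Cfsg.Involves H G := by
  obtain ⟨K, f, hf⟩ := exists_hom_of_involves h
  let L := K.comap π
  let fL : ↥L →* H := f.comp (π.subgroupComap K)
  have hfL : Function.Surjective fL := by
    refine hf.comp ?_
    rintro ⟨k, hk⟩
    obtain ⟨g, rfl⟩ := hπ k
    exact ⟨⟨g, hk⟩, rfl⟩
  have hn : ((fL.ker.map L.subtype).subgroupOf L).Normal := by
    rw [subgroupOf, comap_map_eq_self_of_injective L.subtype_injective]
    infer_instance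
  refine ⟨L, fL.ker.map L.subtype, hn, ?_⟩
  letI : (comap L.subtype (fL.ker.map L.subtype)).Normal := hn
  exact ⟨(QuotientGroup.quotientMulEquivOfEq
      (comap_map_eq_self_of_injective L.subtype_injective fL.ker)).trans
      (QuotientGroup.quotientKerEquivOfSurjective fL hfL)⟩

theorem not_involves_of_card {G H : Type*} [Group G] [Finite G] [Group H] [Finite H]
    (h : ¬ Nat.card H ∣ Nat.card G) : ¬ Cfsg.Involves H G := by
  intro hi
  obtain ⟨K, f, hf⟩ := exists_hom_of_involves hi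
  exact h ((Subgroup.card_dvd_of_surjective f hf).trans K.card_subgroup_dvd_card)

/-- Even characteristic: an abelian Sylow 2-subgroup. -/
theorem abelian_sylow_PSL_even {F : Type*} [Field F] [Fintype F] {n : ℕ}
    (hF : Fintype.card F = 2 ^ n) (hn : n ≠ 0) :
    ∃ S : Sylow 2 (Matrix.ProjectiveSpecialLinearGroup (Fin 2) F),
      IsMulCommutative (S : Subgroup (Matrix.ProjectiveSpecialLinearGroup (Fin 2) F)) := by
  haveI : Fact (Nat.Prime 2) := ⟨Nat.prime_two⟩
  have he : Even (Fintype.card F) := by rw [hF]; exact (even_two (α := ℕ)).pow_of_ne_zero hn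
  let π : Matrix.SpecialLinearGroup (Fin 2) F →* Matrix.ProjectiveSpecialLinearGroup (Fin 2) F :=
    QuotientGroup.mk' _
  let u : Multiplicative F →* Matrix.SpecialLinearGroup (Fin 2) F :=
    MonoidHom.mk' (fun x => ⟨!![1, Multiplicative.toAdd x; 0, 1], by simp [Matrix.det_fin_two_of]⟩)
      (fun x y => Subtype.ext (by
        show (_ : Matrix (Fin 2) (Fin 2) F) = _ * _
        ext i j; fin_cases i <;> fin_cases j <;> simp [add_comm]))
  have hinj : Function.Injective (π.comp u) := by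
    rw [injective_iff_map_eq_one]
    intro x hx
    have h := (center_offdiag ((QuotientGroup.eq_one_iff _).1 hx)).1
    change Multiplicative.toAdd x = 0 at h
    exact Multiplicative.toAdd.injective h
  have hcard : Nat.card (π.comp u).range = Fintype.card F := by
    rw [← Nat.card_congr (MonoidHom.ofInjective hinj).toEquiv,
      Nat.card_congr Multiplicative.toAdd, Nat.card_eq_fintype_card]
  have hfac : (Nat.card (Matrix.ProjectiveSpecialLinearGroup (Fin 2) F)).factorization 2 = n := by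
    rw [Cfsg.Agent.Lib.Linear.card_PSL_two_of_even he, mul_assoc,
      Nat.factorization_mul_apply_of_coprime]
    · rw [hF, Nat.prime_two.factorization_pow, Finsupp.single_eq_same,
        Nat.factorization_eq_zero_of_not_dvd, add_zero]
      have hone := Fintype.one_lt_card (α := F)
      obtain ⟨k, hk⟩ := he
      rw [← hF, hk]
      intro hd
      rcases Nat.prime_two.dvd_mul.1 hd with h | h <;> omega
    · rw [hF, Nat.coprime_pow_left_iff (Nat.pos_of_ne_zero hn), Nat.prime_two.coprime_iff_not_dvd]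
      have hone := Fintype.one_lt_card (α := F)
      obtain ⟨k, hk⟩ := he
      rw [← hF, hk]
      intro hd
      rcases Nat.prime_two.dvd_mul.1 hd with h | h <;> omega
  refine ⟨Sylow.ofCard (π.comp u).range (by rw [hcard, hfac, hF]), ?_⟩
  show IsMulCommutative ↥(π.comp u).range
  exact ⟨⟨fun a b => by
    obtain ⟨_, ⟨x, rfl⟩⟩ := a
    obtain ⟨_, ⟨y, rfl⟩⟩ := b
    exact Subtype.ext (by
      show (π.comp u) x * (π.comp u) y = (π.comp u) y * (π.comp u) x
      rw [← map_mul, ← map_mul, mul_comm])⟩⟩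

section Unitary

variable {F : Type*} [Field F] [Fintype F] {n : ℕ}

theorem not_involves_S4_PSU (hF : Fintype.card F = (2 ^ n) ^ 2) :
    ¬ Cfsg.Involves (Equiv.Perm (Fin 4)) (Cfsg.PSU 3 F (2 ^ n)) := by
  intro h
  haveI : Fact (Nat.Prime 2) := ⟨Nat.prime_two⟩
  haveI := U3Sylow.charP_two hF
  refine not_involves_S4_of_local (fun Q hQ hQ1 a ha b hb hi hj => ?_)
    (involves_of_surjective (QuotientGroup.mk' _) (QuotientGroup.mk'_surjective _) h)
  obtain ⟨i, hi⟩ := hi
  obtain ⟨j, hj⟩ := hj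
  exact QdFree.Unitary.isPElement_mul hF Q hQ hQ1 ha hb hi hj

theorem involves_S3_PSU (hF : Fintype.card F = (2 ^ n) ^ 2) :
    Cfsg.Involves (Equiv.Perm (Fin 3)) (Cfsg.PSU 3 F (2 ^ n)) := by
  haveI := U3Sylow.charP_two hF
  have h11 : (1 : F) + 1 = 0 := by rw [one_add_one_eq_two]; exact CharTwo.two_eq_zero
  have hn1 : (-1 : F) = 1 := CharTwo.neg_eq 1
  let X : Matrix.SpecialLinearGroup (Fin 3) F :=
    ⟨!![0, 1, 0; 0, 0, 1; 1, 0, 0], by simp [Matrix.det_fin_three]⟩
  let T : Matrix.SpecialLinearGroup (Fin 3) F :=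
    ⟨!![0, 1, 0; 1, 0, 0; 0, 0, 1], by simp [Matrix.det_fin_three, hn1]⟩
  have hX : X ∈ Cfsg.SU 3 F (2 ^ n) := by
    intro u v
    show Cfsg.hermForm 3 F (2 ^ n) (X.1 *ᵥ u) (X.1 *ᵥ v) = _
    simp [Cfsg.hermForm, X, Matrix.mulVec, dotProduct, Fin.sum_univ_three]
    ring
  have hT : T ∈ Cfsg.SU 3 F (2 ^ n) := by
    intro u v
    show Cfsg.hermForm 3 F (2 ^ n) (T.1 *ᵥ u) (T.1 *ᵥ v) = _
    simp [Cfsg.hermForm, T, Matrix.mulVec, dotProduct, Fin.sum_univ_three]
    ring
  let x : Cfsg.SU 3 F (2 ^ n) := ⟨X, hX⟩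
  let t : Cfsg.SU 3 F (2 ^ n) := ⟨T, hT⟩
  have hnc : x * t ≠ t * x := by
    intro e
    have := congrFun (congrFun (congrArg (fun g : Cfsg.SU 3 F (2 ^ n) =>
      (g.1.1 : Matrix (Fin 3) (Fin 3) F)) e) 0) 0
    change (X.1 * T.1) 0 0 = (T.1 * X.1) 0 0 at this
    simp [X, T, Matrix.mul_apply, Fin.sum_univ_three] at this
  let π : Cfsg.SU 3 F (2 ^ n) →* Cfsg.PSU 3 F (2 ^ n) := QuotientGroup.mk' _
  have hx3 : x ^ 3 = 1 := by
    refine Subtype.ext (Subtype.ext ?_)
    rw [pow_three]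
    show X.1 * (X.1 * X.1) = 1
    ext i j; fin_cases i <;> fin_cases j <;> simp [X, Matrix.mul_apply, Fin.sum_univ_three]
  have ht2 : t * t = 1 := by
    refine Subtype.ext (Subtype.ext ?_)
    show T.1 * T.1 = 1
    ext i j; fin_cases i <;> fin_cases j <;> simp [T, Matrix.mul_apply, Fin.sum_univ_three]
  have hinv : t * x * t = x⁻¹ := by
    refine eq_inv_of_mul_eq_one_left (Subtype.ext (Subtype.ext ?_))
    show T.1 * X.1 * T.1 * X.1 = 1
    ext i j; fin_cases i <;> fin_cases j <;> simp [T, X, Matrix.mul_apply, Fin.sum_univ_three]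
  refine involves_S3_of_inverted (x := π x) (t := π t) (by rw [← map_pow, hx3, map_one]) ?_
    (by rw [← map_mul, ht2, map_one]) ?_ (by rw [← map_mul, ← map_mul, hinv, map_inv])
  · intro h
    exact hnc (Subgroup.mem_center_iff.1 ((QuotientGroup.eq_one_iff _).1 h) t).symm
  · intro h
    exact hnc (Subgroup.mem_center_iff.1 ((QuotientGroup.eq_one_iff _).1 h) x)

end Unitary

theorem three_not_dvd_suzuki {G : Type*} [Group G] (h : Cfsg.IsSuzuki G) :
    ¬ 3 ∣ Nat.card G := by
  obtain ⟨-, m, -, hc⟩ := h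
  rw [hc]
  have h2 : 2 ^ (2 * m + 1) % 3 = 2 := by rw [pow_succ, pow_mul, Nat.mul_mod, Nat.pow_mod]; norm_num
  have h1 : 1 ≤ 2 ^ (2 * m + 1) := Nat.one_le_two_pow
  generalize 2 ^ (2 * m + 1) = q at h1 h2 ⊢
  intro hd
  rcases Nat.prime_three.dvd_mul.1 hd with h3 | h3
  · rcases Nat.prime_three.dvd_mul.1 h3 with h4 | h4
    · have := Nat.prime_three.dvd_of_dvd_pow h4; omega
    · have h5 : (q ^ 2 + 1) % 3 = 2 := by rw [Nat.add_mod, Nat.pow_mod, h2]
      omega
  · omega

theorem involves_S3_J1 : Cfsg.Involves (Equiv.Perm (Fin 3)) ↥Cfsg.Spor.J1 := by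
  haveI : Finite Cfsg.Spor.J1 := Nat.finite_of_card_ne_zero (by
    rw [SporMatrix.J1.card_J1]; norm_num)
  let c : alternatingGroup (Fin 5) :=
    ⟨Equiv.swap 0 1 * Equiv.swap 1 2, by rw [Equiv.Perm.mem_alternatingGroup]; decide⟩
  let t : alternatingGroup (Fin 5) :=
    ⟨Equiv.swap 0 1 * Equiv.swap 3 4, by rw [Equiv.Perm.mem_alternatingGroup]; decide⟩
  refine involves_S3_of_inverted (x := J1Cent.phi c) (t := J1Cent.phi t) ?_ ?_ ?_ ?_ ?_
  · rw [← map_pow, show c ^ 3 = 1 from Subtype.ext (by show c.1 ^ 3 = 1; decide), map_one]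
  · exact fun h => absurd (J1Cent.phi_injective (h.trans (map_one _).symm))
      (fun e => absurd (congrArg Subtype.val e) (by decide))
  · rw [← map_mul, show t * t = 1 from Subtype.ext (by show t.1 * t.1 = 1; decide), map_one]
  · exact fun h => absurd (J1Cent.phi_injective (h.trans (map_one _).symm))
      (fun e => absurd (congrArg Subtype.val e) (by decide))
  · rw [← map_mul, ← map_mul, ← map_inv]
    exact congrArg _ (Subtype.ext (by show t.1 * c.1 * t.1 = c.1⁻¹; decide))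

/-- A 2-subgroup of `M × H` is abelian for abelian `M` and `8 ∤ |H|`. -/
theorem comm_of_iso_prod {G M H : Type*} [Group G] [Finite G] [CommGroup M] [Group H] [Finite H]
    {C : Subgroup G} (e : ↥C ≃* M × H) (h8 : ¬ 8 ∣ Nat.card H) {P : Subgroup G} (hP : IsPGroup 2 P)
    (hPC : P ≤ C) : ∀ a ∈ P, ∀ b ∈ P, a * b = b * a := by
  intro a ha b hb
  let φ : ↥P →* H := (MonoidHom.snd M H).comp (e.toMonoidHom.comp (inclusion hPC))
  have hφ := comm_of_two_group h8 (P := φ.range) (hP.of_surjective _ φ.rangeRestrict_surjective)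
    _ ⟨⟨a, ha⟩, rfl⟩ _ ⟨⟨b, hb⟩, rfl⟩
  have := e.injective (a₁ := ⟨a, hPC ha⟩ * ⟨b, hPC hb⟩) (a₂ := ⟨b, hPC hb⟩ * ⟨a, hPC ha⟩) (by
    rw [map_mul, map_mul]
    exact Prod.ext (mul_comm _ _) hφ)
  exact congrArg Subtype.val this

theorem abelian_sylow_J1 :
    ∃ S : Sylow 2 ↥Cfsg.Spor.J1, IsMulCommutative (S : Subgroup ↥Cfsg.Spor.J1) := by
  haveI : Fact (Nat.Prime 2) := ⟨Nat.prime_two⟩
  haveI : Finite Cfsg.Spor.J1 := Nat.finite_of_card_ne_zero (by
    rw [SporMatrix.J1.card_J1]; norm_num)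
  obtain ⟨e⟩ := J1Cent.centralizer_iso
  let P : Sylow 2 (centralizer ({J1Cent.t} : Set Cfsg.Spor.J1)) := default
  have hC : Nat.card (centralizer ({J1Cent.t} : Set Cfsg.Spor.J1)) = 120 := by
    rw [Nat.card_congr e.toEquiv, Nat.card_prod, Cfsg.Agent.Lib.PSL11.card_A5]
    simp
  have hf : ∀ m : ℕ, Odd m → (8 * m).factorization 2 = 3 := fun m hm => by
    rw [Nat.factorization_mul_apply_of_coprime
      ((Nat.coprime_two_left.2 hm).pow_left 3 : (2 ^ 3).Coprime m),
      Nat.factorization_eq_zero_of_not_dvd (show ¬ 2 ∣ m by rw [← even_iff_two_dvd]; exact Nat.not_even_iff_odd.2 hm),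
      show (8 : ℕ) = 2 ^ 3 by norm_num, Nat.prime_two.factorization_pow, Finsupp.single_eq_same]
  have hS : Nat.card ((P : Subgroup (centralizer ({J1Cent.t} : Set Cfsg.Spor.J1))).map (centralizer _).subtype) =
      2 ^ (Nat.card Cfsg.Spor.J1).factorization 2 := by
    rw [card_map_of_injective (Subgroup.subtype_injective _), P.card_eq_multiplicity, hC,
      SporMatrix.J1.card_J1, show (120 : ℕ) = 8 * 15 by norm_num,
      show (175560 : ℕ) = 8 * 21945 by norm_num, hf 15 (by decide), hf 21945 (by decide)]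
  refine ⟨Sylow.ofCard _ hS, ⟨⟨fun a b => Subtype.ext ?_⟩⟩⟩
  refine comm_of_iso_prod e ?_ ((P.isPGroup').map _) (map_subtype_le _) a a.2 b b.2
  rw [Cfsg.Agent.Lib.PSL11.card_A5]; norm_num

end Cfsg.Agent.Lib.Goldschmidt92
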