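import Cfsg.Agent.Lib.Goldschmidt92.Others

/-!
Groups of Ree type: abelian Sylow 2-subgroup, and without an involution inverting an element of
order three the Sylow 3-subgroup of the centraliser of an involution is Sylow in the group.
-/

set_option autoImplicit false
set_option linter.style.haveILetI false
set_option linter.unusedSectionVars false

namespace Cfsg.Agent.Lib.Goldschmidt92

open Subgroup

section Ree

variable {G : Type*} [Group G] [Finite G] {F : Type*} [Field F] [Fintype F]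

local notation "PSL" => Matrix.ProjectiveSpecialLinearGroup (Fin 2) F

/-- A `3`-group normalised by `t` is centralised by it when no element of order three is inverted. -/
theorem centralised_of_noS3 (hno : ¬ Cfsg.Involves (Equiv.Perm (Fin 3)) G) {t : G} (ht : t * t = 1)
    (ht1 : t ≠ 1) {W : Subgroup G} (hW : IsPGroup 3 W) (htW : t ∈ normalizer (W : Set G)) :
    W ≤ centralizer ({t} : Set G) := by
  haveI : Fact (Nat.Prime 3) := ⟨Nat.prime_three⟩
  intro w hw
  have hti : t⁻¹ = t := inv_eq_of_mul_eq_one_left ht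
  set y := w⁻¹ * (t * w * t⁻¹) with hy
  have hyW : y ∈ W := W.mul_mem (W.inv_mem hw) ((mem_normalizer_iff.1 htW w).1 hw)
  suffices hy1 : y = 1 by
    refine mem_centralizer_singleton_iff.2 ?_
    have h2 : t * w * t⁻¹ = w := (inv_mul_eq_one.1 hy1).symm
    have h3 : t * w = w * t := mul_inv_eq_iff_eq_mul.1 h2
    first | exact h3 | exact h3.symm
  by_contra hy1
  have hinv : t * y * t = y⁻¹ := by
    rw [hy, hti]
    calc t * (w⁻¹ * (t * w * t)) * t = t * w⁻¹ * t * w * (t * t) := by group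
      _ = t⁻¹ * w⁻¹ * t⁻¹ * w := by rw [ht, mul_one, hti]
      _ = (w⁻¹ * (t * w * t))⁻¹ := by group
  obtain ⟨k, hk⟩ := hW ⟨y, hyW⟩
  have hk' : y ^ 3 ^ k = 1 := congrArg Subtype.val hk
  obtain ⟨j, hj⟩ := (Nat.dvd_prime_pow Nat.prime_three).1 (orderOf_dvd_of_pow_eq_one hk')
  have hjpos : j ≠ 0 := fun e => hy1 (orderOf_eq_one_iff.1 (by rw [hj.2, e, pow_zero]))
  refine hno (involves_S3_of_inverted (x := y ^ 3 ^ (j - 1)) (t := t) ?_ ?_ ht ht1 ?_)
  · rw [← pow_mul, ← pow_succ, Nat.sub_add_cancel (Nat.pos_of_ne_zero hjpos), ← hj.2,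
      pow_orderOf_eq_one]
  · intro e
    have h5 := orderOf_dvd_of_pow_eq_one e
    rw [hj.2] at h5
    have := (Nat.pow_dvd_pow_iff_le_right (by norm_num : 1 < 3)).1 h5
    omega
  · have hyinv : t * y * t⁻¹ = y⁻¹ := by rw [hti]; exact hinv
    calc t * y ^ 3 ^ (j - 1) * t = t * y ^ 3 ^ (j - 1) * t⁻¹ := by rw [hti]
      _ = (t * y * t⁻¹) ^ 3 ^ (j - 1) := conj_pow.symm
      _ = (y ^ 3 ^ (j - 1))⁻¹ := by rw [hyinv, inv_pow]

/-- The shape of the centraliser. -/
theorem exists_equiv_of_internal {t : G} {K : Subgroup G} (ht : orderOf t = 2)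
    (h : Cfsg.IsInternalDirectProduct (zpowers t) K (centralizer ({t} : Set G)))
    (e : Nonempty (↥K ≃* PSL)) :
    Nonempty (↥(centralizer ({t} : Set G)) ≃* Multiplicative (ZMod 2) × PSL) := by
  obtain ⟨e⟩ := e
  obtain ⟨h1, h2, hc, hinf, hsup⟩ := h
  have hcc : ∀ (a : zpowers t) (b : K), Commute ((zpowers t).subtype a) (K.subtype b) :=
    fun a b => hc a a.2 b b.2
  have hφ : Function.Injective ((zpowers t).subtype.noncommCoprod K.subtype hcc) := by
    rw [MonoidHom.noncommCoprod_injective]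
    refine ⟨Subgroup.subtype_injective _, Subgroup.subtype_injective _, ?_⟩
    rw [range_subtype, range_subtype, disjoint_iff]
    exact hinf
  have hr : ((zpowers t).subtype.noncommCoprod K.subtype hcc).range = centralizer ({t} : Set G) := by
    rw [MonoidHom.noncommCoprod_range, range_subtype, range_subtype, hsup]
  let m : Multiplicative (ZMod 2) ≃* zpowers t :=
    mulEquivOfCyclicCardEq (by rw [Nat.card_zpowers, ht, Nat.card_congr Multiplicative.toAdd, Nat.card_zmod])
  exact ⟨((MulEquiv.subgroupCongr hr).symm.trans (MonoidHom.ofInjective hφ).symm).trans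
    (MulEquiv.prodCongr m.symm e)⟩

theorem abelian_sylow_ree {t : G} (hidx : Odd (centralizer ({t} : Set G)).index)
    (e : ↥(centralizer ({t} : Set G)) ≃* Multiplicative (ZMod 2) × PSL)
    (hq : Fintype.card F % 8 = 3 ∨ Fintype.card F % 8 = 5) :
    ∀ S : Sylow 2 G, ∀ a b : S, a * b = b * a := by
  haveI : Fact (Nat.Prime 2) := ⟨Nat.prime_two⟩
  obtain ⟨P⟩ : Nonempty (Sylow 2 (centralizer ({t} : Set G))) := inferInstance
  set C := centralizer ({t} : Set G) with hC
  have hS : Nat.card ((P : Subgroup C).map C.subtype) = 2 ^ (Nat.card G).factorization 2 := by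
    rw [card_map_of_injective C.subtype_injective, P.card_eq_multiplicity, ← C.card_mul_index,
      Nat.factorization_mul Nat.card_pos.ne' Subgroup.index_ne_zero_of_finite, Finsupp.add_apply,
      Nat.factorization_eq_zero_of_not_dvd (n := C.index)
        (by rw [← even_iff_two_dvd]; exact Nat.not_even_iff_odd.2 hidx), add_zero]
  intro S a b
  obtain ⟨g, rfl⟩ := MulAction.exists_smul_eq G (Sylow.ofCard _ hS) S
  obtain ⟨x, hx, hxa⟩ := a.2
  obtain ⟨y, hy, hyb⟩ := b.2
  change g * x * g⁻¹ = _ at hxa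
  change g * y * g⁻¹ = _ at hyb
  have hxy : x * y = y * x :=
    comm_of_iso_prod e (not_eight_dvd_card hq) ((P.isPGroup').map _) (map_subtype_le _) x hx y hy
  refine Subtype.ext ?_
  show (a : G) * b = b * a
  calc (a : G) * b = g * (x * y) * g⁻¹ := by rw [← hxa, ← hyb]; group
    _ = g * (y * x) * g⁻¹ := by rw [hxy]
    _ = b * a := by rw [← hxa, ← hyb]; group

theorem zmod2_eq : ∀ a b : Multiplicative (ZMod 2), a ≠ 1 → b ≠ 1 → a = b := by decide

/-- Without a section `S₃` the order of `G` has the `3`-part of the centraliser. -/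
theorem factorization_three_le [CharP F 3] (hno : ¬ Cfsg.Involves (Equiv.Perm (Fin 3)) G) {t : G}
    (ht : orderOf t = 2) (e : ↥(centralizer ({t} : Set G)) ≃* Multiplicative (ZMod 2) × PSL)
    (hq : Fintype.card F % 4 = 3) :
    (Nat.card G).factorization 3 ≤ (Nat.card (centralizer ({t} : Set G))).factorization 3 := by
  haveI : Fact (Nat.Prime 2) := ⟨Nat.prime_two⟩
  haveI : Fact (Nat.Prime 3) := ⟨Nat.prime_three⟩
  have ht2 : t * t = 1 := by rw [← pow_two, ← ht, pow_orderOf_eq_one]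
  have ht1 : t ≠ 1 := fun h => by rw [h, orderOf_one] at ht; norm_num at ht
  set Ct := centralizer ({t} : Set G) with hCt
  obtain ⟨P⟩ : Nonempty (Sylow 3 Ct) := inferInstance
  set P0 : Subgroup G := (P : Subgroup Ct).map Ct.subtype with hP0
  have hP0c : P0 ≤ Ct := map_subtype_le _
  have hP0p : IsPGroup 3 P0 := P.isPGroup'.map _
  have hP0card : Nat.card P0 = 3 ^ (Nat.card Ct).factorization 3 := by
    rw [hP0, card_map_of_injective Ct.subtype_injective, P.card_eq_multiplicity]
  have hmaxP : ∀ W : Subgroup G, IsPGroup 3 W → P0 ≤ W → W ≤ Ct → W = P0 := by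
    intro W hW hle hWC
    have hmax := P.is_maximal' (hW.comap_subtype (K := Ct))
      (fun x hx => mem_subgroupOf.2 (hle ⟨x, hx, rfl⟩))
    refine le_antisymm (fun w hw => ?_) hle
    exact ⟨⟨w, hWC hw⟩, hmax ▸ mem_subgroupOf.2 hw, rfl⟩
  have hP0ne : P0 ≠ ⊥ := by
    intro h
    rw [h, card_bot] at hP0card
    have h3 : 3 ∣ Nat.card Ct := by
      rw [Nat.card_congr e.toEquiv, Nat.card_prod]
      refine Dvd.dvd.mul_left ?_ _
      have hdq : 3 ∣ Fintype.card F := by
        obtain ⟨m, -, hm⟩ := FiniteField.card F 3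
        exact hm ▸ dvd_pow_self 3 m.ne_zero
      have hh := Cfsg.Agent.Lib.Linear.two_mul_card_PSL_two_of_odd (F := F) (Nat.odd_iff.2 (by omega))
      have : 3 ∣ 2 * Nat.card PSL := hh ▸ (hdq.mul_right _).mul_right _
      exact (Nat.prime_three.dvd_mul.1 this).resolve_left (by norm_num)
    have := (Nat.prime_three.dvd_iff_one_le_factorization Nat.card_pos.ne').1 h3
    have := Nat.one_lt_pow (n := (Nat.card Ct).factorization 3) (by omega) (by norm_num : 1 < 3)
    omega
  set C := centralizer (P0 : Set G) with hC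
  have htC : t ∈ C := fun x hx => mem_centralizer_singleton_iff.1 (hP0c hx)
  set N := normalizer (P0 : Set G) with hN
  have hCN : C ≤ N := centralizer_le_normalizer _
  -- a `2`-element of `C ∩ C(t)` lies in `⟨t⟩`
  have h2elt : ∀ s ∈ C, s ∈ Ct → (∃ i : ℕ, s ^ 2 ^ i = 1) → s ∈ zpowers t := by
    intro s hsC hsT hsi
    obtain ⟨i, hi⟩ := hsi
    obtain ⟨x, hxP, hx1⟩ : ∃ x ∈ P0, x ≠ 1 := by
      obtain ⟨x, hx⟩ := Subgroup.ne_bot_iff_exists_ne_one.1 hP0ne
      exact ⟨x, x.2, fun e => hx (Subtype.ext e)⟩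
    obtain ⟨j, hj⟩ := hP0p ⟨x, hxP⟩
    have hjx : x ^ 3 ^ j = 1 := congrArg Subtype.val hj
    have hxt : (e ⟨x, hP0c hxP⟩).1 = 1 := by
      have h3 : (e ⟨x, hP0c hxP⟩).1 ^ 3 ^ j = 1 := by
        rw [← Prod.pow_fst, ← map_pow]
        simp [show (⟨x, hP0c hxP⟩ : Ct) ^ 3 ^ j = 1 from Subtype.ext hjx]
      refine orderOf_eq_one_iff.1 (Nat.dvd_one.1 ?_)
      rw [← Nat.coprime_iff_gcd_eq_one.1 ((by norm_num : Nat.Coprime 2 3).pow_right j)]
      refine Nat.dvd_gcd ?_ (orderOf_dvd_of_pow_eq_one h3)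
      have := orderOf_dvd_natCard (e ⟨x, hP0c hxP⟩).1
      simpa using this
    have hne : (e ⟨x, hP0c hxP⟩).2 ≠ 1 := by
      intro h
      exact hx1 (congrArg Subtype.val (e.injective (a₁ := ⟨x, hP0c hxP⟩) (a₂ := 1)
        (by rw [map_one]; exact Prod.ext hxt h)))
    let σ : PSL := (e ⟨s, hsT⟩).2
    have hσ : σ = 1 := by
      by_contra hσ
      have hσi : σ ^ 2 ^ i = 1 := by
        show (e ⟨s, hsT⟩).2 ^ 2 ^ i = 1
        rw [← Prod.pow_snd, ← map_pow]
        simp [show (⟨s, hsT⟩ : Ct) ^ 2 ^ i = 1 from Subtype.ext hi]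
      obtain ⟨k, hk⟩ := (Nat.dvd_prime_pow Nat.prime_two).1 (orderOf_dvd_of_pow_eq_one hσi)
      have hk0 : k ≠ 0 := fun h0 => hσ (orderOf_eq_one_iff.1 (by rw [hk.2, h0, pow_zero]))
      have hτ : σ ^ 2 ^ (k - 1) ≠ 1 := fun h1 => by
        have h5 := orderOf_dvd_of_pow_eq_one h1
        rw [hk.2] at h5
        have := (Nat.pow_dvd_pow_iff_le_right (by norm_num : 1 < 2)).1 h5
        omega
      refine hτ (three_local_odd hq (zpowers (e ⟨x, hP0c hxP⟩).2) ?_ ?_ _ ?_ ?_)
      · refine IsPGroup.iff_card.2 ?_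
        rw [Nat.card_zpowers]
        have h3 : (e ⟨x, hP0c hxP⟩).2 ^ 3 ^ j = 1 := by
          rw [← Prod.pow_snd, ← map_pow]
          simp [show (⟨x, hP0c hxP⟩ : Ct) ^ 3 ^ j = 1 from Subtype.ext hjx]
        obtain ⟨m, hm⟩ := (Nat.dvd_prime_pow Nat.prime_three).1 (orderOf_dvd_of_pow_eq_one h3)
        exact ⟨m, hm.2⟩
      · exact fun h => hne (zpowers_eq_bot.1 h)
      · have hcomm : Commute σ (e ⟨x, hP0c hxP⟩).2 := by
          have h0 : (⟨s, hsT⟩ : Ct) * ⟨x, hP0c hxP⟩ = ⟨x, hP0c hxP⟩ * ⟨s, hsT⟩ :=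
            Subtype.ext (show s * x = x * s from (hsC x hxP).symm)
          exact congrArg Prod.snd ((map_mul e _ _).symm.trans ((congrArg e h0).trans (map_mul e _ _)))
        refine centralizer_le_normalizer _ ?_
        rintro _ ⟨n, rfl⟩
        exact ((hcomm.pow_left _).zpow_right n).eq.symm
      · rw [← pow_add, ← two_mul, ← pow_succ', Nat.sub_add_cancel (Nat.pos_of_ne_zero hk0), ← hk.2,
          pow_orderOf_eq_one]
    -- so `s` is a power of `t`
    have htt : (e ⟨t, mem_centralizer_singleton_iff.2 rfl⟩).2 = 1 := by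
      set τ := (e ⟨t, mem_centralizer_singleton_iff.2 rfl⟩).2 with hτ
      by_contra hτ1
      refine hτ1 (three_local_odd hq (zpowers (e ⟨x, hP0c hxP⟩).2) ?_ ?_ τ ?_ ?_)
      · refine IsPGroup.iff_card.2 ?_
        rw [Nat.card_zpowers]
        have h3 : (e ⟨x, hP0c hxP⟩).2 ^ 3 ^ j = 1 := by
          rw [← Prod.pow_snd, ← map_pow]
          simp [show (⟨x, hP0c hxP⟩ : Ct) ^ 3 ^ j = 1 from Subtype.ext hjx]
        obtain ⟨m, hm⟩ := (Nat.dvd_prime_pow Nat.prime_three).1 (orderOf_dvd_of_pow_eq_one h3)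
        exact ⟨m, hm.2⟩
      · exact fun h => hne (zpowers_eq_bot.1 h)
      · have hcomm : Commute τ (e ⟨x, hP0c hxP⟩).2 := by
          have h0 : (⟨t, mem_centralizer_singleton_iff.2 rfl⟩ : Ct) * ⟨x, hP0c hxP⟩ =
              ⟨x, hP0c hxP⟩ * ⟨t, mem_centralizer_singleton_iff.2 rfl⟩ :=
            Subtype.ext (show t * x = x * t from (htC x hxP).symm)
          exact congrArg Prod.snd ((map_mul e _ _).symm.trans ((congrArg e h0).trans (map_mul e _ _)))
        refine centralizer_le_normalizer _ ?_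
        rintro _ ⟨n, rfl⟩
        exact (hcomm.zpow_right n).eq.symm
      · have h0 : (⟨t, mem_centralizer_singleton_iff.2 rfl⟩ : Ct) * ⟨t, mem_centralizer_singleton_iff.2 rfl⟩ = 1 :=
          Subtype.ext ht2
        have h1 := congrArg Prod.snd ((map_mul e _ _).symm.trans ((congrArg e h0).trans (map_one e)))
        exact h1
    by_cases h : (e ⟨s, hsT⟩).1 = 1
    · have : (⟨s, hsT⟩ : Ct) = 1 := e.injective (by rw [map_one]; exact Prod.ext h hσ)
      rw [show s = 1 from congrArg Subtype.val this]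
      exact one_mem _
    · have : (⟨s, hsT⟩ : Ct) = ⟨t, mem_centralizer_singleton_iff.2 rfl⟩ := by
        refine e.injective (Prod.ext ?_ (hσ.trans htt.symm))
        have ht' : (e ⟨t, mem_centralizer_singleton_iff.2 rfl⟩).1 ≠ 1 := fun h' => ht1
          (congrArg Subtype.val (e.injective (a₁ := ⟨t, mem_centralizer_singleton_iff.2 rfl⟩) (a₂ := 1)
            (by rw [map_one]; exact Prod.ext h' htt)))
        exact zmod2_eq _ _ h ht'
      rw [show s = t from congrArg Subtype.val this]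
      exact mem_zpowers t
  -- `⟨t⟩` is a Sylow 2-subgroup of `C`
  set T : Subgroup C := zpowers ⟨t, htC⟩ with hT
  have hTcard : Nat.card T = 2 := by
    rw [hT, Nat.card_zpowers, Subgroup.orderOf_mk, ht]
  have hTp : IsPGroup 2 T := IsPGroup.of_card (n := 1) (by rw [hTcard, pow_one])
  have hTmax : ∀ S : Sylow 2 C, T ≤ S → (S : Subgroup C) = T := by
    intro S hS
    by_contra hne
    have hlt : T.subgroupOf S < ⊤ := by
      refine lt_top_iff_ne_top.2 fun h => hne (le_antisymm ?_ hS)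
      exact subgroupOf_eq_top.1 h
    haveI := S.isPGroup'.isNilpotent
    have hn := Group.normalizerCondition_of_isNilpotent (T.subgroupOf S) hlt
    obtain ⟨s, hsN, hsT⟩ := SetLike.exists_of_lt hn
    refine hsT (mem_subgroupOf.2 ?_)
    have hconj : (s : C) * ⟨t, htC⟩ * (s : C)⁻¹ = ⟨t, htC⟩ := by
      have h1 := (mem_normalizer_iff.1 hsN ⟨⟨t, htC⟩, hS (mem_zpowers _)⟩).1
        (mem_subgroupOf.2 (mem_zpowers _))
      obtain ⟨k, hk⟩ := mem_subgroupOf.1 h1
      have hk' : (⟨t, htC⟩ : C) ^ k = (s : C) * ⟨t, htC⟩ * (s : C)⁻¹ := hk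
      rcases Int.emod_two_eq_zero_or_one k with h0 | h0
      · exfalso
        rw [← Int.emod_add_mul_ediv k 2, h0, zero_add, zpow_mul,
          show (⟨t, htC⟩ : C) ^ (2 : ℤ) = 1 from Subtype.ext (by
            rw [zpow_two]; exact ht2), one_zpow] at hk'
        exact ht1 (congrArg Subtype.val (conj_eq_one_iff.1 hk'.symm))
      · rw [← hk', ← Int.emod_add_mul_ediv k 2, h0, zpow_add, zpow_mul,
          show (⟨t, htC⟩ : C) ^ (2 : ℤ) = 1 from Subtype.ext (by
            rw [zpow_two]; exact ht2), one_zpow, mul_one, zpow_one]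
    have hsCt : ((s : C) : G) ∈ Ct := by
      refine mem_centralizer_singleton_iff.2 ?_
      have := congrArg Subtype.val (mul_inv_eq_iff_eq_mul.1 hconj)
      exact this
    obtain ⟨i, hi⟩ := S.isPGroup' s
    obtain ⟨k, hk⟩ := h2elt _ (s : C).2 hsCt ⟨i, congrArg (fun z : ↥(S : Subgroup C) => ((z : C) : G)) hi⟩
    exact ⟨k, Subtype.ext (by simpa using hk)⟩
  obtain ⟨S, hS⟩ := hTp.exists_le_sylow
  have hST := hTmax S hS
  have hS2 : Nat.card (S : Subgroup C) = 2 := by rw [hST, hTcard]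
  -- every involution of `C` is conjugate to `t` in `C`
  have hconjT : ∀ u : C, u * u = 1 → u ≠ 1 → ∃ c : C, u = c * ⟨t, htC⟩ * c⁻¹ := by
    intro u hu hu1
    have hup : IsPGroup 2 (zpowers u) := IsPGroup.of_card (n := 1) (by
      rw [Nat.card_zpowers, pow_one, orderOf_eq_prime (p := 2) (by rw [pow_two, hu]) hu1])
    obtain ⟨U, hU⟩ := hup.exists_le_sylow
    obtain ⟨c, rfl⟩ := MulAction.exists_smul_eq C S U
    obtain ⟨z, hz, hzu⟩ := hU (mem_zpowers u)
    change c * z * c⁻¹ = u at hzu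
    change z ∈ (S : Subgroup C) at hz
    rw [hST] at hz
    obtain ⟨k, rfl⟩ := hz
    refine ⟨c, ?_⟩
    rcases Int.emod_two_eq_zero_or_one k with h0 | h0
    · exfalso
      have h1 : (⟨t, htC⟩ : C) ^ k = 1 := by
        rw [← Int.emod_add_mul_ediv k 2, h0, zero_add, zpow_mul,
          show (⟨t, htC⟩ : C) ^ (2 : ℤ) = 1 from Subtype.ext (by rw [zpow_two]; exact ht2), one_zpow]
      simp only at hzu
      rw [h1, mul_one, mul_inv_cancel] at hzu
      exact hu1 hzu.symm
    · have h1 : (⟨t, htC⟩ : C) ^ k = ⟨t, htC⟩ := by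
        rw [← Int.emod_add_mul_ediv k 2, h0, zpow_add, zpow_mul,
          show (⟨t, htC⟩ : C) ^ (2 : ℤ) = 1 from Subtype.ext (by rw [zpow_two]; exact ht2),
          one_zpow, mul_one, zpow_one]
      simp only at hzu
      rw [← hzu, h1]
  -- the normal `2`-complement
  have hNZ : normalizer ((S : Subgroup C) : Set C) ≤ centralizer ((S : Subgroup C) : Set C) := by
    intro n hn x hx
    have hx' : x ∈ (S : Subgroup C) := hx
    by_cases hx1 : x = 1
    · rw [hx1, one_mul, mul_one]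
    have h2 := (mem_normalizer_iff.1 hn x).1 hx'
    have huniq : ∀ u ∈ (S : Subgroup C), u ≠ 1 → u = ⟨t, htC⟩ := by
      intro u hu hu1
      rw [hST, hT] at hu
      obtain ⟨k, hk⟩ := hu
      have hk' : (⟨t, htC⟩ : C) ^ k = u := hk
      rcases Int.emod_two_eq_zero_or_one k with h0 | h0
      · exfalso
        refine hu1 ?_
        rw [← hk', ← Int.emod_add_mul_ediv k 2, h0, zero_add, zpow_mul,
          show (⟨t, htC⟩ : C) ^ (2 : ℤ) = 1 from Subtype.ext (by rw [zpow_two]; exact ht2), one_zpow]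
      · rw [← hk', ← Int.emod_add_mul_ediv k 2, h0, zpow_add, zpow_mul,
          show (⟨t, htC⟩ : C) ^ (2 : ℤ) = 1 from Subtype.ext (by rw [zpow_two]; exact ht2),
          one_zpow, mul_one, zpow_one]
    have h3 : n * x * n⁻¹ = x := by
      rw [huniq _ h2 (fun h => hx1 (conj_eq_one_iff.1 h)), huniq x hx' hx1]
    exact (mul_inv_eq_iff_eq_mul.1 h3).symm
  set O := (MonoidHom.transferSylow S hNZ).ker with hO
  have hcompl := MonoidHom.ker_transferSylow_isComplement' S hNZ
  have hOidx : O.index = 2 := by rw [hcompl.symm.index_eq_card, hS2]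
  have hOodd : ¬ 2 ∣ Nat.card O := MonoidHom.not_dvd_card_ker_transferSylow S hNZ
  -- `t` normalises a Sylow `3`-subgroup of `C`
  obtain ⟨R⟩ : Nonempty (Sylow 3 O) := inferInstance
  set R' : Subgroup C := (R : Subgroup O).map O.subtype with hR'
  have hRcard : Nat.card R' = 3 ^ (Nat.card C).factorization 3 := by
    rw [hR', card_map_of_injective O.subtype_injective, R.card_eq_multiplicity,
      ← O.card_mul_index, hOidx, Nat.factorization_mul Nat.card_pos.ne' (by norm_num),
      Finsupp.add_apply, Nat.factorization_eq_zero_of_not_dvd (n := 2) (by norm_num : ¬ 3 ∣ 2),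
      add_zero]
  obtain ⟨n, hnN, hnO⟩ : ∃ n ∈ normalizer (R' : Set C), n ∉ O := by
    by_contra hcon
    push Not at hcon
    have htop := Sylow.normalizer_sup_eq_top R
    rw [show normalizer (((R : Subgroup O).map O.subtype : Subgroup C) : Set C) ⊔ O = O from
      sup_eq_right.2 hcon] at htop
    rw [htop, Subgroup.index_top] at hOidx
    norm_num at hOidx
  obtain ⟨u, huN, hu2, hu1⟩ : ∃ u ∈ normalizer (R' : Set C), u * u = 1 ∧ u ≠ 1 := by
    have h2 : 2 ∣ Nat.card (normalizer (R' : Set C)) := by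
      refine dvd_trans ?_ (Subgroup.card_dvd_of_surjective
        ((MonoidHom.transferSylow S hNZ).comp (normalizer (R' : Set C)).subtype).rangeRestrict
        (MonoidHom.rangeRestrict_surjective _))
      have hne : ((MonoidHom.transferSylow S hNZ).comp (normalizer (R' : Set C)).subtype).range ≠ ⊥ := by
        intro h
        refine hnO (MonoidHom.mem_ker.2 ?_)
        exact Subgroup.mem_bot.1 (h ▸ ⟨⟨n, hnN⟩, rfl⟩)
      have hd := Subgroup.card_subgroup_dvd_card
        ((MonoidHom.transferSylow S hNZ).comp (normalizer (R' : Set C)).subtype).range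
      rw [hS2] at hd
      rcases (Nat.dvd_prime Nat.prime_two).1 hd with h1 | h1
      · exact absurd (Subgroup.card_eq_one.1 h1) hne
      · rw [h1]
    obtain ⟨u, hu⟩ := exists_prime_orderOf_dvd_card' 2 h2
    refine ⟨u, u.2, ?_, ?_⟩
    · rw [← Subgroup.coe_mul, ← pow_two, ← hu, pow_orderOf_eq_one, Subgroup.coe_one]
    · intro h
      rw [show u = 1 from Subtype.ext h, orderOf_one] at hu
      norm_num at hu
  obtain ⟨c, rfl⟩ := hconjT u hu2 hu1
  set W : Subgroup C := R'.map (MulAut.conj c⁻¹).toMonoidHom with hW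
  set W' : Subgroup G := W.map C.subtype with hW'
  have hW'p : IsPGroup 3 W' := (((R.isPGroup').map _).map _).map _
  have htW : t ∈ normalizer (W' : Set G) := by
    have h1 : (⟨t, htC⟩ : C) ∈ normalizer (W : Set C) := by
      refine mem_normalizer_iff.2 fun z => ?_
      have h := mem_normalizer_iff.1 huN (c * z * c⁻¹)
      have hmem : ∀ y : C, y ∈ W ↔ c * y * c⁻¹ ∈ R' := by
        intro y
        rw [hW]
        constructor
        · rintro ⟨r, hr, rfl⟩
          have : c * ((MulAut.conj c⁻¹).toMonoidHom r) * c⁻¹ = r := by simp; group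
          rw [this]; exact hr
        · exact fun hy => ⟨_, hy, by simp; group⟩
      rw [hmem, hmem, h]
      have : c * ⟨t, htC⟩ * c⁻¹ * (c * z * c⁻¹) * (c * ⟨t, htC⟩ * c⁻¹)⁻¹ =
          c * (⟨t, htC⟩ * z * (⟨t, htC⟩ : C)⁻¹) * c⁻¹ := by group
      rw [this]
    exact le_normalizer_map C.subtype ⟨_, h1, rfl⟩
  have hW'Ct : W' ≤ C ⊓ Ct := le_inf (map_subtype_le _)
    (centralised_of_noS3 hno ht2 ht1 hW'p htW)
  have hW'card : Nat.card W' = 3 ^ (Nat.card C).factorization 3 := by
    rw [hW', card_map_of_injective C.subtype_injective, hW,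
      card_map_of_injective (MulAut.conj c⁻¹).injective, hRcard]
  have hCle : (Nat.card C).factorization 3 ≤ (Nat.card (C ⊓ Ct : Subgroup G)).factorization 3 := by
    have := Subgroup.card_dvd_of_le hW'Ct
    rw [hW'card] at this
    exact (Nat.prime_three.pow_dvd_iff_le_factorization Nat.card_pos.ne').1 this
  -- the Frattini argument in `N`
  set M := N ⊓ Ct with hM
  haveI hCn : (C.subgroupOf N).Normal := by
    refine ⟨fun x hx g => ?_⟩
    rw [mem_subgroupOf] at hx ⊢
    intro p hp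
    have hp' : (g : G)⁻¹ * p * g ∈ P0 := (mem_normalizer_iff''.1 g.2 p).1 hp
    have h := hx _ hp'
    show p * ((g : G) * x * (g : G)⁻¹) = (g : G) * x * (g : G)⁻¹ * p
    calc p * ((g : G) * x * (g : G)⁻¹) = g * (((g : G)⁻¹ * p * g) * x) * (g : G)⁻¹ := by group
      _ = g * (x * ((g : G)⁻¹ * p * g)) * (g : G)⁻¹ := by rw [h]
      _ = (g : G) * x * (g : G)⁻¹ * p := by group
  let θ : ↥M →* ↥N ⧸ C.subgroupOf N :=
    (QuotientGroup.mk' _).comp (inclusion (inf_le_left : M ≤ N))
  have hθ : Function.Surjective θ := by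
    intro q
    obtain ⟨g, rfl⟩ := QuotientGroup.mk'_surjective _ q
    have hgmem : (g : G) * t * (g : G)⁻¹ ∈ C :=
      mem_subgroupOf.1 (hCn.conj_mem ⟨t, hCN htC⟩ (mem_subgroupOf.2 htC) g)
    have hgt : (⟨(g : G) * t * (g : G)⁻¹, hgmem⟩ : C) * ⟨(g : G) * t * (g : G)⁻¹, hgmem⟩ = 1 := by
      refine Subtype.ext ?_
      show (g : G) * t * (g : G)⁻¹ * ((g : G) * t * (g : G)⁻¹) = 1
      calc _ = (g : G) * (t * t) * (g : G)⁻¹ := by group
        _ = 1 := by rw [ht2, mul_one, mul_inv_cancel]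
    obtain ⟨d, hd⟩ := hconjT _ hgt (fun h => ht1 (conj_eq_one_iff.1 (congrArg Subtype.val h)))
    have hd' : (g : G) * t * (g : G)⁻¹ = d * t * (d : G)⁻¹ := congrArg Subtype.val hd
    refine ⟨⟨(d : G)⁻¹ * g, Subgroup.mem_inf.2 ⟨N.mul_mem (N.inv_mem (hCN d.2)) g.2,
      mem_centralizer_singleton_iff.2 ?_⟩⟩, ?_⟩
    · have h1 : ((d : G)⁻¹ * g) * t = t * ((d : G)⁻¹ * g) := by
        calc ((d : G)⁻¹ * g) * t = (d : G)⁻¹ * ((g : G) * t * (g : G)⁻¹) * g := by group
          _ = t * ((d : G)⁻¹ * g) := by rw [hd']; group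
      exact h1
    · show QuotientGroup.mk' (C.subgroupOf N) _ = QuotientGroup.mk' _ g
      rw [QuotientGroup.mk'_apply, QuotientGroup.mk'_apply, QuotientGroup.eq, mem_subgroupOf]
      show ((d : G)⁻¹ * g)⁻¹ * g ∈ C
      have hmem : (g : G)⁻¹ * d * g ∈ C := by
        simpa using (mem_subgroupOf.1 (hCn.conj_mem ⟨d, hCN d.2⟩ (mem_subgroupOf.2 d.2) g⁻¹))
      rw [mul_inv_rev, inv_inv]
      exact hmem
  have hNcard : Nat.card N * Nat.card (C ⊓ Ct : Subgroup G) = Nat.card C * Nat.card M := by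
    have h1 := Subgroup.card_eq_card_quotient_mul_card_subgroup (C.subgroupOf N)
    rw [Nat.card_congr (subgroupOfEquivOfLe hCN).toEquiv] at h1
    have h2 := Subgroup.card_eq_card_quotient_mul_card_subgroup θ.ker
    rw [Nat.card_congr (QuotientGroup.quotientKerEquivOfSurjective θ hθ).toEquiv] at h2
    have h3 : θ.ker = (C ⊓ Ct).subgroupOf M := by
      ext ⟨m, hmN, hmC⟩
      rw [MonoidHom.mem_ker, mem_subgroupOf]
      constructor
      · exact fun h => ⟨mem_subgroupOf.1 ((QuotientGroup.eq_one_iff (N := C.subgroupOf N)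
          (inclusion (inf_le_left : M ≤ N) ⟨m, hmN, hmC⟩)).1 h), hmC⟩
      · exact fun h => (QuotientGroup.eq_one_iff (N := C.subgroupOf N)
          (inclusion (inf_le_left : M ≤ N) ⟨m, hmN, hmC⟩)).2 (mem_subgroupOf.2 h.1)
    rw [h3, Nat.card_congr (subgroupOfEquivOfLe (le_inf (inf_le_left.trans hCN) inf_le_right :
      C ⊓ Ct ≤ M)).toEquiv] at h2
    rw [h1, h2]; ring
  have hNle : (Nat.card N).factorization 3 ≤ (Nat.card Ct).factorization 3 := by
    have h := congrArg (fun n : ℕ => n.factorization 3) hNcard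
    simp only [Nat.factorization_mul Nat.card_pos.ne' Nat.card_pos.ne', Finsupp.add_apply] at h
    have hMle : (Nat.card M).factorization 3 ≤ (Nat.card Ct).factorization 3 :=
      (Nat.factorization_le_iff_dvd Nat.card_pos.ne' Nat.card_pos.ne').2
        (Subgroup.card_dvd_of_le (inf_le_right : M ≤ Ct)) 3
    omega
  by_contra hlt
  have hdvd : 3 ^ ((Nat.card Ct).factorization 3 + 1) ∣ Nat.card G :=
    (Nat.prime_three.pow_dvd_iff_le_factorization Nat.card_pos.ne').2 (by omega)
  have := (Nat.prime_three.pow_dvd_iff_le_factorization Nat.card_pos.ne').1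
    (Sylow.prime_pow_dvd_card_normalizer hdvd hP0card)
  rw [← hN] at this
  omega

end Ree

end Cfsg.Agent.Lib.Goldschmidt92
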